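import Groth.Agent.DComplLib.Step

/-!
# Existence and properties of derived completion
-/

set_option autoImplicit false
set_option linter.style.haveILetI false
set_option backward.isDefEq.respectTransparency false

universe u

open CategoryTheory Limits Pretriangulated
attribute [local instance] HasDerivedCategory.standard

noncomputable section

namespace Groth.Agent.DComplLib

variable {A : Type u} [CommRing A]

theorem IsCompl.comp {S S' : Set A} {X Y Z : Dual.D A} {η : X ⟶ Y} {η' : Y ⟶ Z} (h : IsCompl S η)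
    (h' : IsCompl S' η') (hS : S ⊆ dcIdealD Z) : IsCompl (S ∪ S') (η ≫ η') where
  mem := Set.union_subset hS h'.mem
  bij E hE := by
    have e : (fun φ : Z ⟶ E => (η ≫ η') ≫ φ) = (fun φ => η ≫ φ) ∘ fun φ => η' ≫ φ :=
      funext fun φ => Category.assoc _ _ _
    rw [e]
    exact (h.bij E (Set.subset_union_left.trans hE)).comp (h'.bij E (Set.subset_union_right.trans hE))

theorem isCompl_step (f : A) (K : DRing.Cx A) : IsCompl {f} (DerivedCategory.Q.map (stepη f K)) where
  mem := Set.singleton_subset_iff.2 (mem_dcIdealD_step_self f K)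
  bij E hE := bijective_stepη f K E (hE rfl)

/-- Iterated completion. -/
def compList : List A → DRing.Cx A → DRing.Cx A
  | [], K => K
  | f :: t, K => step f (compList t K)

/-- The unit of the iterated completion. -/
def compListη : ∀ (s : List A) (K : DRing.Cx A), K ⟶ compList s K
  | [], K => 𝟙 K
  | f :: t, K => compListη t K ≫ stepη f (compList t K)

theorem mem_dcIdealD_compList {g : A} : ∀ (s : List A) (K : DRing.Cx A), g ∈ dcIdealD (DRing.toD K) →
    g ∈ dcIdealD (DRing.toD (compList s K))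
  | [], _, h => h
  | f :: t, K, h => mem_dcIdealD_step f _ (mem_dcIdealD_compList t K h)

theorem isCompl_compList : ∀ (s : List A) (K : DRing.Cx A),
    IsCompl {f | f ∈ s} (DerivedCategory.Q.map (compListη s K))
  | [], K => ⟨fun f hf => by simp at hf, fun E _ => by
      simp only [compListη, CategoryTheory.Functor.map_id, Category.id_comp]
      exact Function.bijective_id⟩
  | f :: t, K => by
    have h := isCompl_compList t K
    have e : ({g | g ∈ f :: t} : Set A) = {g | g ∈ t} ∪ {f} := by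
      ext g; simp [or_comm]
    rw [e]
    have he : DerivedCategory.Q.map (compListη (f :: t) K) =
        DerivedCategory.Q.map (compListη t K) ≫ DerivedCategory.Q.map (stepη f (compList t K)) :=
      Functor.map_comp _ _ _
    rw [he]
    exact h.comp (isCompl_step f _) fun g hg => mem_dcIdealD_step f _ (h.mem hg)

theorem IsCompl.span {S : Set A} {I : Ideal A} (hI : Ideal.span S = I) {X Y : Dual.D A} {η : X ⟶ Y}
    (h : IsCompl S η) : IsCompl (I : Set A) η where
  mem := by
    rw [← hI]
    exact fun x hx => (Ideal.span_le.2 h.mem) hx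
  bij E hE := h.bij E fun x hx => hE (hI ▸ Ideal.subset_span hx)

theorem IsCompl.of_iso {S : Set A} {X X' Y : Dual.D A} {η : X ⟶ Y} (h : IsCompl S η) (e : X' ≅ X) :
    IsCompl S (e.hom ≫ η) where
  mem := h.mem
  bij E hE := by
    have he : (fun φ : Y ⟶ E => (e.hom ≫ η) ≫ φ) = (e.symm.homFromEquiv) ∘ fun φ => η ≫ φ :=
      funext fun φ => Category.assoc _ _ _
    rw [he]
    exact (Equiv.bijective _).comp (h.bij E hE)

theorem IsCompl.of_iso_target {S : Set A} {X Y Y' : Dual.D A} {η : X ⟶ Y} (h : IsCompl S η) (e : Y ≅ Y') :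
    IsCompl S (η ≫ e.hom) where
  mem := fun f hf => mem_dcIdealD_of_iso e (h.mem hf)
  bij E hE := by
    have he : (fun φ : Y' ⟶ E => (η ≫ e.hom) ≫ φ) = (fun φ => η ≫ φ) ∘ e.symm.homFromEquiv :=
      funext fun φ => Category.assoc _ _ _
    rw [he]
    exact (h.bij E hE).comp (Equiv.bijective _)

theorem mem_iff_le {I : Ideal A} (E : Dual.D A) : DRing.IsDerivedComplete I E ↔ (I : Set A) ⊆ dcIdealD E :=
  isDerivedComplete_iff_le E

theorem exists_isCompl {I : Ideal A} {s : List A} (hs : Ideal.ofList s = I) (X : Dual.D A) :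
    ∃ (Y : Dual.D A) (η : X ⟶ Y), IsCompl (I : Set A) η :=
  ⟨_, _, ((isCompl_compList s (DerivedCategory.Q.objPreimage X)).span hs).of_iso
    (DerivedCategory.Q.objObjPreimageIso X).symm⟩

theorem exists_ofList {I : Ideal A} (hI : I.FG) : ∃ s : List A, Ideal.ofList s = I := by
  obtain ⟨s, hs⟩ := hI
  exact ⟨s.toList, by rw [← hs]; simp [Ideal.ofList]⟩

theorem hasDerivedCompletion {I : Ideal A} (hI : I.FG) : DRing.HasDerivedCompletion I := by
  obtain ⟨s, hs⟩ := exists_ofList hI
  choose Y η hη using exists_isCompl hs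
  let F : Dual.D A → DRing.DComp I := fun X => ⟨Y X, (mem_iff_le _).2 (hη X).mem⟩
  let e : ∀ (X : Dual.D A) (E : DRing.DComp I),
      (F X ⟶ E) ≃ (X ⟶ (ObjectProperty.ι (DRing.IsDerivedComplete I)).obj E) := fun X E =>
    { toFun := fun φ => η X ≫ φ.hom
      invFun := fun ψ => ObjectProperty.homMk (((hη X).bij E.obj ((mem_iff_le _).1 E.property)).2 ψ).choose
      left_inv := fun φ => by
        apply (ObjectProperty.ι _).map_injective
        exact ((hη X).bij E.obj ((mem_iff_le _).1 E.property)).1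
          (((hη X).bij E.obj ((mem_iff_le _).1 E.property)).2 (η X ≫ φ.hom)).choose_spec
      right_inv := fun ψ => (((hη X).bij E.obj ((mem_iff_le _).1 E.property)).2 ψ).choose_spec }
  exact (Adjunction.adjunctionOfEquivLeft e fun X E E' g h => by
    show η X ≫ (h.hom ≫ g.hom) = (η X ≫ h.hom) ≫ g.hom
    rw [Category.assoc]).isRightAdjoint

variable {I : Ideal A} [DRing.HasDerivedCompletion I]

theorem isCompl_toDerivedCompletion (X : Dual.D A) : IsCompl (I : Set A) (DRing.toDerivedCompletion I X) where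
  mem := (mem_iff_le _).1 ((DRing.derivedCompletion I).obj X).property
  bij E hE := by
    let Ec : DRing.DComp I := ⟨E, (mem_iff_le E).2 hE⟩
    let adj := DRing.derivedCompletionAdj I
    have h : (fun φ : ((DRing.derivedCompletion I).obj X).obj ⟶ E => DRing.toDerivedCompletion I X ≫ φ) =
        adj.homEquiv X Ec ∘ ObjectProperty.homMk := by
      funext φ
      exact ((adj.homEquiv_unit (X := X) (Y := Ec) (f := ObjectProperty.homMk φ))).symm
    rw [h]
    exact (adj.homEquiv X Ec).bijective.comp ⟨fun a b h => congrArg (fun t => t.hom) h, fun g => ⟨g.hom, rfl⟩⟩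

theorem isZero_completion (X : Dual.D A) (f : A) (hf : f ∈ I) [IsIso (f • 𝟙 X)] :
    IsZero ((DRing.derivedCompletion I).obj X).obj := by
  have h := isCompl_toDerivedCompletion (I := I) X
  rw [IsZero.iff_id_eq_zero]
  exact h.hom_ext h.mem ((eq_zero_of_isIso_smul (f := f) (mem_dcIdealD.1 (h.mem hf)) _).trans
    (eq_zero_of_isIso_smul (f := f) (mem_dcIdealD.1 (h.mem hf)) _).symm)

omit [DRing.HasDerivedCompletion I] in
theorem subsingleton_compList : ∀ (s : List A) (K : DRing.Cx A) (n : ℤ),
    (∀ m : ℤ, n ≤ m → m ≤ n + s.length → Subsingleton (Dual.HD A (DRing.toD K) m)) →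
    Subsingleton (Dual.HD A (DRing.toD (compList s K)) n)
  | [], K, n, h => h n le_rfl (by simp)
  | f :: t, K, n, h => subsingleton_step f _ n
      (subsingleton_compList t K n fun m h1 h2 => h m h1 (by rw [List.length_cons]; omega))
      (subsingleton_compList t K (n + 1) fun m h1 h2 => h m (by omega) (by rw [List.length_cons]; omega))

/-- Cohomological bounds of a completion. -/
theorem IsCompl.subsingleton {I : Ideal A} {s : List A} (hs : Ideal.ofList s = I) {X Y : Dual.D A} {η : X ⟶ Y}
    (h : IsCompl (I : Set A) η) (n : ℤ)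
    (hX : ∀ m : ℤ, n ≤ m → m ≤ n + s.length → Subsingleton (Dual.HD A X m)) : Subsingleton (Dual.HD A Y n) := by
  let K := DerivedCategory.Q.objPreimage X
  let e : DRing.toD K ≅ X := DerivedCategory.Q.objObjPreimageIso X
  obtain ⟨e', -⟩ := (((isCompl_compList s K).span hs).of_iso e.symm).exists_iso h
  haveI := subsingleton_compList s K n fun m h1 h2 =>
    haveI := hX m h1 h2
    ((DerivedCategory.homologyFunctor _ m).mapIso e).toLinearEquiv.injective.subsingleton
  exact ((DerivedCategory.homologyFunctor _ n).mapIso e').toLinearEquiv.symm.injective.subsingleton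

omit [DRing.HasDerivedCompletion I] in
theorem exists_compl_cone {S : Set A} {K L K' L' N : Dual.D A} {φ : K ⟶ L} {φ' : K' ⟶ L'} {ηK : K ⟶ K'}
    {ηL : L ⟶ L'} (hK : IsCompl S ηK) (hL : IsCompl S ηL) (comm : φ ≫ ηL = ηK ≫ φ') {a : L ⟶ N}
    {b : N ⟶ K⟦(1 : ℤ)⟧} (hT : Triangle.mk φ a b ∈ distTriang (Dual.D A)) :
    ∃ (N' : Dual.D A) (a' : L' ⟶ N') (b' : N' ⟶ K'⟦(1 : ℤ)⟧) (η : N ⟶ N'),
      Triangle.mk φ' a' b' ∈ distTriang (Dual.D A) ∧ IsCompl S η := by
  obtain ⟨N', a', b', hT'⟩ := distinguished_cocone_triangle φ'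
  obtain ⟨η, h1, h2⟩ := complete_distinguished_triangle_morphism (Triangle.mk φ a b) (Triangle.mk φ' a' b')
    hT hT' ηK ηL comm
  refine ⟨N', a', b', η, hT', ⟨fun f hf => ?_, fun E hE => ?_⟩⟩
  · exact mem_dcIdealD_obj₃ (Triangle.mk φ' a' b') hT' (hK.mem hf) (hL.mem hf)
  · exact bijective_precomp₃ (S := S) (T := Triangle.mk φ a b) (T' := Triangle.mk φ' a' b') hT hT'
      (Triangle.homMk _ _ ηK ηL η comm h1 h2) hK.bij hL.bij E hE

/-- The completion of a cone. -/
theorem exists_cone_completion {K L : Dual.D A} (φ : K ⟶ L) {N : Dual.D A} (a : L ⟶ N) (b : N ⟶ K⟦(1 : ℤ)⟧)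
    (hT : Triangle.mk φ a b ∈ distTriang (Dual.D A)) :
    ∃ (N' : Dual.D A) (a' : ((DRing.derivedCompletion I).obj L).obj ⟶ N')
      (b' : N' ⟶ ((DRing.derivedCompletion I).obj K).obj⟦(1 : ℤ)⟧) (η : N ⟶ N'),
      Triangle.mk ((DRing.derivedCompletion I).map φ).hom a' b' ∈ distTriang (Dual.D A) ∧
        IsCompl (I : Set A) η :=
  exists_compl_cone (isCompl_toDerivedCompletion (I := I) K) (isCompl_toDerivedCompletion (I := I) L)
    ((DRing.derivedCompletionAdj I).unit.naturality φ) hT

omit [DRing.HasDerivedCompletion I] in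
theorem subsingleton_cone_of {K L N : Dual.D A} {φ : K ⟶ L} {a : L ⟶ N} {b : N ⟶ K⟦(1 : ℤ)⟧}
    (hT : Triangle.mk φ a b ∈ distTriang (Dual.D A)) (n : ℤ)
    (he : Epi ((DerivedCategory.homologyFunctor (ModuleCat.{u} A) n).map φ))
    (hm : Mono ((DerivedCategory.homologyFunctor (ModuleCat.{u} A) (n + 1)).map φ)) :
    Subsingleton (Dual.HD A N n) := by
  let T := Triangle.mk φ a b
  have h3 := (ShortComplex.ShortExact.moduleCat_exact_iff_function_exact _).1
    (DerivedCategory.HomologySequence.exact₃ T hT n (n + 1))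
  have e2 := (DerivedCategory.HomologySequence.epi_homologyMap_mor₁_iff T hT n).1 he
  have e3 := (DerivedCategory.HomologySequence.mono_homologyMap_mor₁_iff T hT n (n + 1)).1 hm
  refine subsingleton_of_forall_eq 0 fun x => ?_
  obtain ⟨y, rfl⟩ := (h3 x).1 (congr($(e3).hom x))
  exact congr($(e2).hom y)

omit [DRing.HasDerivedCompletion I] in
theorem epi_of_cone {K L N : Dual.D A} {φ : K ⟶ L} {a : L ⟶ N} {b : N ⟶ K⟦(1 : ℤ)⟧}
    (hT : Triangle.mk φ a b ∈ distTriang (Dual.D A)) (n : ℤ) (h : Subsingleton (Dual.HD A N n)) :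
    Epi ((DerivedCategory.homologyFunctor (ModuleCat.{u} A) n).map φ) :=
  (DerivedCategory.HomologySequence.epi_homologyMap_mor₁_iff (Triangle.mk φ a b) hT n).2
    (ModuleCat.hom_ext (LinearMap.ext fun _ => @Subsingleton.elim _ h _ _))

omit [DRing.HasDerivedCompletion I] in
theorem mono_of_cone {K L N : Dual.D A} {φ : K ⟶ L} {a : L ⟶ N} {b : N ⟶ K⟦(1 : ℤ)⟧}
    (hT : Triangle.mk φ a b ∈ distTriang (Dual.D A)) (n : ℤ) (h : Subsingleton (Dual.HD A N n)) :
    Mono ((DerivedCategory.homologyFunctor (ModuleCat.{u} A) (n + 1)).map φ) :=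
  (DerivedCategory.HomologySequence.mono_homologyMap_mor₁_iff (Triangle.mk φ a b) hT n (n + 1)).2
    (ModuleCat.hom_ext (LinearMap.ext fun x => by
      rw [show x = 0 from @Subsingleton.elim _ h _ _, map_zero, map_zero]))

end Groth.Agent.DComplLib
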