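import Groth.Agent.DComplLib.PowerAction
import Groth.Agent.RegLocal.Complete

/-!
# One completion step for modules
-/

set_option autoImplicit false
set_option linter.style.haveILetI false

universe u

open Function

noncomputable section

namespace Groth.Agent.DComplLib

variable {A : Type u} [CommRing A] (f : A) (M : Type u) [AddCommGroup M] [Module A M]

/-- `T - f` on sequences. -/
def phiLin : (ℕ → M) →ₗ[A] (ℕ → M) where
  toFun z k := Nat.casesOn k (-(f • z 0)) fun j => z j - f • z (j + 1)
  map_add' x y := funext fun k => by cases k <;> simp [smul_add] <;> abel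
  map_smul' a x := funext fun k => by cases k <;> simp [smul_sub, smul_comm f a]

/-- Bounded `f`-power torsion. -/
def BT : Prop := ∃ N : ℕ, ∀ (m : M) (k : ℕ), f ^ k • m = 0 → f ^ N • m = 0

theorem phiLin_injective (h : BT f M) : Injective (phiLin f M) := by
  refine (injective_iff_map_eq_zero (phiLin f M)).2 fun z hz => funext fun k => ?_
  obtain ⟨N, hN⟩ := h
  have h0 : f • z 0 = 0 := neg_eq_zero.1 (congrFun hz 0)
  have hs : ∀ j, z j = f • z (j + 1) := fun j => sub_eq_zero.1 (congrFun hz (j + 1))
  have hp : ∀ i j, z j = f ^ i • z (j + i) := fun i => by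
    induction i with
    | zero => intro j; simp
    | succ i ih => intro j; rw [ih j, hs (j + i), smul_smul, ← pow_succ, Nat.add_assoc]
  have htor : ∀ j, f ^ N • z j = 0 := fun j => hN (z j) (j + 1) (by
    rw [pow_succ', mul_smul, show f ^ j • z j = z 0 by simpa using (hp j 0).symm, h0])
  rw [hp N k]
  exact htor _

/-- Partial sums. -/
def partialSum (n : ℕ) : (ℕ → M) →ₗ[A] M := ∑ k ∈ Finset.range n, f ^ k • LinearMap.proj k

theorem partialSum_phiLin (w : ℕ → M) (n : ℕ) :
    partialSum f M (n + 1) (phiLin f M w) = -(f ^ (n + 1) • w n) := by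
  simp only [partialSum, LinearMap.coe_sum, Finset.sum_apply, LinearMap.smul_apply, LinearMap.proj_apply]
  induction n with
  | zero => simp [phiLin]
  | succ n ih =>
    rw [Finset.sum_range_succ, ih]
    show -(f ^ (n + 1) • w n) + f ^ (n + 1) • (w n - f • w (n + 1)) = _
    rw [smul_sub, smul_smul, ← pow_succ]
    abel

theorem partialSum_single (x : M) (n : ℕ) :
    partialSum f M (n + 1) (LinearMap.single A (fun _ : ℕ => M) 0 x) = x := by
  simp only [partialSum, LinearMap.coe_sum, Finset.sum_apply, LinearMap.smul_apply, LinearMap.proj_apply]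
  rw [Finset.sum_eq_single 0]
  · simp
  · intro k _ hk
    simp [hk]
  · simp

/-- The comparison of a module with a completion of it. -/
structure Reduc (J : Ideal A) {M N : Type u} [AddCommGroup M] [Module A M] [AddCommGroup N] [Module A N]
    (ι : M →ₗ[A] N) : Prop where
  gen : ∀ y : N, ∃ x : M, y - ι x ∈ J • (⊤ : Submodule A N)
  inj : ∀ (n : ℕ) (x : M), ι x ∈ J ^ n • (⊤ : Submodule A N) → x ∈ J ^ n • (⊤ : Submodule A M)

variable {f M}

theorem reduc_step {N : Type u} [AddCommGroup N] [Module A N] (q : (ℕ → M) →ₗ[A] N) (hq : Surjective q)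
    (hker : LinearMap.ker q = LinearMap.range (phiLin f M)) {J : Ideal A} (hf : f ∈ J) :
    Reduc J (q.comp (LinearMap.single A (fun _ : ℕ => M) 0)) where
  gen y := by
    obtain ⟨z, rfl⟩ := hq y
    refine ⟨z 0, ?_⟩
    let w : ℕ → M := fun k => z (k + 1)
    have e : z - LinearMap.single A (fun _ : ℕ => M) 0 (z 0) = phiLin f M w + f • w := by
      funext k
      cases k with
      | zero => simp [phiLin]
      | succ k => simp [phiLin, w]
    show q z - q (LinearMap.single A (fun _ : ℕ => M) 0 (z 0)) ∈ _
    rw [← map_sub, e, map_add, map_smul, show q (phiLin f M w) = 0 from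
      LinearMap.mem_ker.1 (hker ▸ LinearMap.mem_range_self _ _), zero_add]
    exact Submodule.smul_mem_smul hf trivial
  inj n x hx := by
    cases n with
    | zero => rw [pow_zero, Submodule.one_smul]; trivial
    | succ n =>
      rw [← LinearMap.range_eq_top.2 hq, ← Submodule.map_top, ← Submodule.map_smul''] at hx
      obtain ⟨v, hv, hvx⟩ := hx
      have hmem : v - LinearMap.single A (fun _ : ℕ => M) 0 x ∈ LinearMap.range (phiLin f M) := by
        rw [← hker, LinearMap.mem_ker, map_sub, hvx]
        exact sub_self _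
      obtain ⟨w, hw⟩ := hmem
      have h := congrArg (partialSum f M (n + 1)) hw
      rw [partialSum_phiLin, map_sub, partialSum_single] at h
      have hx' : x = partialSum f M (n + 1) v + f ^ (n + 1) • w n :=
        sub_eq_iff_eq_add.1 (by rw [eq_sub_iff_add_eq] at h; rw [← h]; abel)
      rw [hx']
      refine add_mem ?_ (Submodule.smul_mem_smul (Ideal.pow_mem_pow hf _) trivial)
      have hv' := Submodule.mem_map_of_mem (f := partialSum f M (n + 1)) hv
      rw [Submodule.map_smul''] at hv'
      exact Submodule.smul_mono le_rfl le_top hv'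

theorem Reduc.comp {J : Ideal A} {M N P : Type u} [AddCommGroup M] [Module A M] [AddCommGroup N] [Module A N]
    [AddCommGroup P] [Module A P] {a : M →ₗ[A] N} {b : N →ₗ[A] P} (ha : Reduc J a) (hb : Reduc J b) :
    Reduc J (b ∘ₗ a) where
  gen y := by
    obtain ⟨v, hv⟩ := hb.gen y
    obtain ⟨x, hx⟩ := ha.gen v
    refine ⟨x, ?_⟩
    have h' := Submodule.mem_map_of_mem (f := b) hx
    rw [Submodule.map_smul'', map_sub] at h'
    have := add_mem hv (Submodule.smul_mono le_rfl le_top h')
    rwa [sub_add_sub_cancel] at this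
  inj n x hx := ha.inj n x (hb.inj n (a x) hx)

theorem Reduc.of_equiv {J : Ideal A} {M N : Type u} [AddCommGroup M] [Module A M] [AddCommGroup N] [Module A N]
    (e : M ≃ₗ[A] N) : Reduc J e.toLinearMap where
  gen y := ⟨e.symm y, by simp⟩
  inj n x hx := by
    have h' := Submodule.mem_map_of_mem (f := e.symm.toLinearMap) hx
    rw [Submodule.map_smul''] at h'
    simpa using Submodule.smul_mono (le_refl (J ^ n)) le_top h'

theorem reduc_id (J : Ideal A) (M : Type u) [AddCommGroup M] [Module A M] : Reduc J (LinearMap.id : M →ₗ[A] M) :=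
  Reduc.of_equiv (LinearEquiv.refl A M)

theorem finite_quotient_of_reduc {J : Ideal A} {N : Type u} [AddCommGroup N] [Module A N] [Module.Finite A M]
    {ι : M →ₗ[A] N} (h : Reduc J ι) : Module.Finite A (N ⧸ J • (⊤ : Submodule A N)) :=
  Module.Finite.of_surjective ((Submodule.mkQ _).comp ι) fun y => by
    obtain ⟨z, rfl⟩ := Submodule.mkQ_surjective _ y
    obtain ⟨x, hx⟩ := h.gen z
    exact ⟨x, ((Submodule.Quotient.eq _).2 hx).symm⟩

theorem bt_of_complete [IsNoetherianRing A] {J : Ideal A} (g : A) {N : Type u} [AddCommGroup N] [Module A N]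
    (hN : ∀ f ∈ J, DC f N) (hfin : Module.Finite A (N ⧸ J • (⊤ : Submodule A N))) : BT g N := by
  obtain ⟨hc, hf'⟩ := isAdicComplete_and_finite J hN hfin
  haveI := hf'
  haveI : IsNoetherianRing (AdicCompletion J A) :=
    Groth.Agent.RegLocal.isNoetherianRing_adicCompletion J J.fg_of_isNoetherianRing
  haveI : IsNoetherian (AdicCompletion J A) (AdicCompletion J N) := isNoetherian_of_isNoetherianRing_of_finite _ _
  let T : ℕ →o Submodule (AdicCompletion J A) (AdicCompletion J N) :=
    ⟨fun k => LinearMap.ker (LinearMap.lsmul (AdicCompletion J A) (AdicCompletion J N)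
        (algebraMap A (AdicCompletion J A) g ^ k)), fun a b hab x hx => by
      simp only [LinearMap.mem_ker, LinearMap.lsmul_apply] at hx ⊢
      rw [← Nat.sub_add_cancel hab, pow_add, mul_smul, hx, smul_zero]⟩
  obtain ⟨N₀, hN₀⟩ := monotone_stabilizes_iff_noetherian.2 inferInstance T
  have hb := AdicCompletion.of_bijective_iff.2 hc
  refine ⟨N₀, fun m k hk => hb.1 ?_⟩
  have hmem : AdicCompletion.of J N m ∈ T k := by
    show algebraMap A (AdicCompletion J A) g ^ k • AdicCompletion.of J N m = 0
    rw [← map_pow, algebraMap_smul, ← map_smul, hk, map_zero]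
  have hmem' : AdicCompletion.of J N m ∈ T N₀ := by
    rcases le_total N₀ k with hle | hle
    · exact (hN₀ k hle).symm ▸ hmem
    · exact T.monotone hle hmem
  change algebraMap A (AdicCompletion J A) g ^ N₀ • AdicCompletion.of J N m = 0 at hmem'
  rw [map_smul, map_zero, ← hmem', ← map_pow, algebraMap_smul]

/-- The completion of a module is detected by reduction. -/
theorem exists_equiv_adicCompletion [IsNoetherianRing A] {I : Ideal A} {N : Type u} [AddCommGroup N] [Module A N]
    [Module.Finite A M] {ι : M →ₗ[A] N} (h : Reduc I ι) (hN : ∀ f ∈ I, DC f N) :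
    ∃ e : N ≃ₗ[A] AdicCompletion I M, ∀ x, e (ι x) = AdicCompletion.of I M x := by
  have hc := (isAdicComplete_and_finite I hN (finite_quotient_of_reduc h)).1
  have hb := AdicCompletion.of_bijective_iff.2 hc
  let μ : AdicCompletion I M →ₗ[A] AdicCompletion I N := (AdicCompletion.map I ι).restrictScalars A
  have hμ : Bijective μ := by
    refine ⟨(injective_iff_map_eq_zero μ).2 fun x hx => ?_,
      AdicCompletion.map_surjective_of_mkQ_comp_surjective fun y => ?_⟩
    · refine Subtype.ext (funext fun n => ?_)
      obtain ⟨m, hm⟩ := Submodule.Quotient.mk_surjective _ (x.val n)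
      have h' : (AdicCompletion.map I ι x).val n = 0 := by
        show (μ x).val n = 0
        rw [hx]; rfl
      rw [AdicCompletion.map_val_apply, ← hm] at h'
      rw [show (0 : AdicCompletion I M).val n = 0 from rfl, ← hm]
      exact (Submodule.Quotient.mk_eq_zero _).2 (h.inj n m ((Submodule.Quotient.mk_eq_zero _).1 h'))
    · obtain ⟨z, rfl⟩ := Submodule.mkQ_surjective _ y
      obtain ⟨x, hx⟩ := h.gen z
      exact ⟨x, ((Submodule.Quotient.eq _).2 hx).symm⟩
  refine ⟨(LinearEquiv.ofBijective (AdicCompletion.of I N) hb).trans (LinearEquiv.ofBijective μ hμ).symm,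
    fun x => ?_⟩
  rw [LinearEquiv.trans_apply, LinearEquiv.symm_apply_eq]
  exact (AdicCompletion.map_of I ι x).symm

end Groth.Agent.DComplLib
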