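import Groth.Agent.DComplLib.Completion
import Groth.Agent.DComplLib.ModStep

/-!
# Completion of complexes with finite cohomology
-/

set_option autoImplicit false
set_option linter.style.haveILetI false
set_option backward.isDefEq.respectTransparency false

universe u

open CategoryTheory Limits Pretriangulated
attribute [local instance] HasDerivedCategory.standard

noncomputable section

namespace Groth.Agent.DComplLib

open Groth.Agent.LocCohLib

variable {A : Type u} [CommRing A]

theorem homologyMap_smul' {K L : DRing.Cx A} (a : A) (φ : K ⟶ L) (n : ℤ) :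
    HomologicalComplex.homologyMap (a • φ) n = a • HomologicalComplex.homologyMap φ n := by
  ext c
  obtain ⟨z, rfl⟩ := cls_surjective K n c
  refine (homologyMap_cls (K := K) n (a • φ) z).trans ?_
  show cls L n _ = a • (HomologicalComplex.homologyMap φ n).hom (cls K n z)
  rw [homologyMap_cls, ← map_smul]
  exact congrArg _ (Subtype.ext rfl)

/-- The map on cohomology of a chain map. -/
def hM {K L : DRing.Cx A} (φ : K ⟶ L) (n : ℤ) :
    Dual.HD A (DRing.toD K) n →ₗ[A] Dual.HD A (DRing.toD L) n :=
  ((DerivedCategory.homologyFunctor (ModuleCat.{u} A) n).map (DerivedCategory.Q.map φ)).hom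

theorem hM_eq {K L : DRing.Cx A} (φ : K ⟶ L) (n : ℤ) (x : Dual.HD A (DRing.toD K) n) :
    (hQIso L n).toLinearEquiv (hM φ n x) =
      (HomologicalComplex.homologyMap φ n).hom ((hQIso K n).toLinearEquiv x) :=
  congr($(hQIso_natural φ n).hom x)

theorem hM_comp {K L P : DRing.Cx A} (φ : K ⟶ L) (ψ : L ⟶ P) (n : ℤ) :
    hM (φ ≫ ψ) n = hM ψ n ∘ₗ hM φ n := by
  rw [hM, hM, hM, Functor.map_comp, Functor.map_comp, ModuleCat.hom_comp]

theorem hM_zero {K L : DRing.Cx A} (n : ℤ) : hM (0 : K ⟶ L) n = 0 := by
  rw [hM, Functor.map_zero, Functor.map_zero, ModuleCat.hom_zero]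

theorem hM_id (K : DRing.Cx A) (n : ℤ) : hM (𝟙 K) n = LinearMap.id := by
  rw [hM, CategoryTheory.Functor.map_id, CategoryTheory.Functor.map_id]
  rfl

theorem hM_sub {K L : DRing.Cx A} (φ ψ : K ⟶ L) (n : ℤ) : hM (φ - ψ) n = hM φ n - hM ψ n := by
  rw [hM, Functor.map_sub, Functor.map_sub, ModuleCat.hom_sub]
  rfl

theorem hM_smul {K L : DRing.Cx A} (a : A) (φ : K ⟶ L) (n : ℤ) : hM (a • φ) n = a • hM φ n := by
  refine LinearMap.ext fun x => (hQIso L n).toLinearEquiv.injective ?_
  rw [hM_eq, LinearMap.smul_apply, map_smul, hM_eq, homologyMap_smul']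
  rfl

/-- The components of a class, in `D(A)`. -/
def seqD (K : DRing.Cx A) (n : ℤ) : Dual.HD A (DRing.toD (seqCx K)) n →ₗ[A] (ℕ → Dual.HD A (DRing.toD K) n) :=
  LinearMap.pi fun k => hM (seqProj K k) n

theorem bijective_seqD (K : DRing.Cx A) (n : ℤ) : Function.Bijective (seqD K n) := by
  let e := (hQIso K n).toLinearEquiv
  let e' := LinearEquiv.piCongrRight fun _ : ℕ => e
  have h : ⇑(seqD K n) = e'.symm ∘ seqHMap K n ∘ (hQIso (seqCx K) n).toLinearEquiv := by
    funext x k
    show hM (seqProj K k) n x = e.symm ((HomologicalComplex.homologyMap (seqProj K k) n).hom _)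
    rw [← hM_eq, LinearEquiv.symm_apply_apply]
  rw [h]
  exact (LinearEquiv.bijective _).comp ((bijective_seqHMap K n).comp (LinearEquiv.bijective _))

theorem seqD_phi (f : A) (K : DRing.Cx A) (n : ℤ) (x : Dual.HD A (DRing.toD (seqCx K)) n) :
    seqD K n (hM (phiMap f K) n x) = phiLin f (Dual.HD A (DRing.toD K) n) (seqD K n x) := by
  have h0 : phiMap f K ≫ seqProj K 0 = -(f • seqProj K 0) := by
    rw [phiMap, Preadditive.sub_comp, Linear.smul_comp, Category.id_comp,
      show seqRight K ≫ seqProj K 0 = 0 from rfl, zero_sub]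
  have hs : ∀ k, phiMap f K ≫ seqProj K (k + 1) = seqProj K k - f • seqProj K (k + 1) := fun k => by
    rw [phiMap, Preadditive.sub_comp, Linear.smul_comp, Category.id_comp,
      show seqRight K ≫ seqProj K (k + 1) = seqProj K k from rfl]
  funext k
  show hM (seqProj K k) n (hM (phiMap f K) n x) = _
  rw [← LinearMap.comp_apply, ← hM_comp]
  cases k with
  | zero =>
    rw [h0, ← zero_sub, hM_sub, hM_zero, hM_smul]
    exact zero_sub _
  | succ k =>
    rw [hs, hM_sub, hM_smul]
    rfl

theorem seqD_head (K : DRing.Cx A) (n : ℤ) (x : Dual.HD A (DRing.toD K) n) :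
    seqD K n (hM (seqHead K) n x) = LinearMap.single A (fun _ : ℕ => Dual.HD A (DRing.toD K) n) 0 x := by
  funext k
  show hM (seqProj K k) n (hM (seqHead K) n x) = _
  rw [← LinearMap.comp_apply, ← hM_comp]
  cases k with
  | zero =>
    rw [show seqHead K ≫ seqProj K 0 = 𝟙 K by ext i v; exact Pi.single_eq_same (M := fun _ : ℕ => K.X i) 0 v,
      hM_id]
    simp
  | succ k =>
    rw [show seqHead K ≫ seqProj K (k + 1) = 0 by
      ext i v; exact Pi.single_eq_of_ne (M := fun _ : ℕ => K.X i) (Nat.succ_ne_zero k) v, hM_zero]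
    simp

theorem reduc_stepη (f : A) (K : DRing.Cx A) (n : ℤ) (hbt : BT f (Dual.HD A (DRing.toD K) (n + 1)))
    {J : Ideal A} (hf : f ∈ J) : Reduc J (hM (stepη f K) n) := by
  let T := DerivedCategory.Q.mapTriangle.obj (CochainComplex.mappingCone.triangle (phiMap f K))
  have hT : T ∈ distTriang (Dual.D A) := DerivedCategory.mappingCone_triangle_distinguished _
  have hinj : Function.Injective (hM (phiMap f K) (n + 1)) := fun x y h =>
    (bijective_seqD K (n + 1)).1 (phiLin_injective f _ hbt (by rw [← seqD_phi, ← seqD_phi, h]))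
  have hmono : Mono ((DerivedCategory.homologyFunctor (ModuleCat.{u} A) (n + 1)).map T.mor₁) :=
    (ModuleCat.mono_iff_injective _).2 hinj
  have hepi := (DerivedCategory.HomologySequence.epi_homologyMap_mor₂_iff T hT n (n + 1)).2
    ((DerivedCategory.HomologySequence.mono_homologyMap_mor₁_iff T hT n (n + 1)).1 hmono)
  let inr' := hM (CochainComplex.mappingCone.inr (phiMap f K)) n
  have hsurj : Function.Surjective inr' := (ModuleCat.epi_iff_surjective _).1 hepi
  have hex : Function.Exact (hM (phiMap f K) n) inr' :=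
    (ShortComplex.ShortExact.moduleCat_exact_iff_function_exact _).1
      (DerivedCategory.HomologySequence.exact₂ T hT n)
  let e := LinearEquiv.ofBijective (seqD K n) (bijective_seqD K n)
  let q : (ℕ → Dual.HD A (DRing.toD K) n) →ₗ[A] Dual.HD A (DRing.toD (step f K)) n := inr' ∘ₗ e.symm.toLinearMap
  have hker : LinearMap.ker q = LinearMap.range (phiLin f (Dual.HD A (DRing.toD K) n)) := by
    ext z
    rw [LinearMap.mem_ker, LinearMap.mem_range]
    refine ⟨fun h => ?_, ?_⟩
    · obtain ⟨x, hx⟩ := (hex (e.symm z)).1 h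
      exact ⟨seqD K n x, by rw [← seqD_phi, hx]; exact e.apply_symm_apply z⟩
    · rintro ⟨w, rfl⟩
      obtain ⟨x, rfl⟩ := e.surjective w
      show inr' (e.symm _) = 0
      rw [show phiLin f _ (e x) = e (hM (phiMap f K) n x) from (seqD_phi f K n x).symm, e.symm_apply_apply]
      exact hex.apply_apply_eq_zero x
  have heq : hM (stepη f K) n = q.comp (LinearMap.single A (fun _ : ℕ => Dual.HD A (DRing.toD K) n) 0) := by
    refine LinearMap.ext fun x => ?_
    show hM (seqHead K ≫ CochainComplex.mappingCone.inr (phiMap f K)) n x = inr' (e.symm _)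
    rw [hM_comp, ← seqD_head]
    show inr' _ = inr' (e.symm (e _))
    rw [e.symm_apply_apply]
  rw [heq]
  exact reduc_step q (hsurj.comp e.symm.surjective) hker hf

theorem reduc_compList [IsNoetherianRing A] : ∀ (s : List A) (K : DRing.Cx A),
    (∀ n, Module.Finite A (Dual.HD A (DRing.toD K) n)) → ∀ (n : ℤ) (J : Ideal A), (∀ g ∈ s, g ∈ J) →
      Reduc J (hM (compListη s K) n)
  | [], K, _, n, J, _ => by
    show Reduc J (hM (𝟙 K) n)
    rw [hM_id]
    exact reduc_id J _
  | f :: t, K, hK, n, J, hJ => by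
    have ih := reduc_compList t K hK
    show Reduc J (hM (compListη t K ≫ stepη f (compList t K)) n)
    rw [hM_comp]
    refine (ih n J fun g hg => hJ g (List.mem_cons_of_mem f hg)).comp
      (reduc_stepη f (compList t K) n ?_ (hJ f List.mem_cons_self))
    haveI := hK (n + 1)
    refine bt_of_complete (J := Ideal.ofList t) f (fun g hg => ?_)
      (finite_quotient_of_reduc (ih (n + 1) (Ideal.ofList t) fun g hg => Ideal.subset_span hg))
    exact mem_dcIdealD.1 (((isCompl_compList t K).span (I := Ideal.ofList t) rfl).mem hg) (n + 1)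

theorem homology_derivedCompletion [IsNoetherianRing A] (I : Ideal A) [DRing.HasDerivedCompletion I]
    (K : Dual.D A) (hK : ∀ n : ℤ, Module.Finite A (Dual.HD A K n)) (n : ℤ) :
    ∃ e : Dual.HD A ((DRing.derivedCompletion I).obj K).obj n ≃ₗ[A] AdicCompletion I (Dual.HD A K n),
      ∀ x : Dual.HD A K n,
        e (((DerivedCategory.homologyFunctor (ModuleCat.{u} A) n).map (DRing.toDerivedCompletion I K)).hom x) =
          AdicCompletion.of I (Dual.HD A K n) x := by
  obtain ⟨s, hs⟩ := exists_ofList (I.fg_of_isNoetherianRing)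
  let P := DerivedCategory.Q.objPreimage K
  let eP : DRing.toD P ≅ K := DerivedCategory.Q.objObjPreimageIso K
  have hP : ∀ m, Module.Finite A (Dual.HD A (DRing.toD P) m) := fun m =>
    haveI := hK m
    Module.Finite.equiv ((DerivedCategory.homologyFunctor _ m).mapIso eP).toLinearEquiv.symm
  obtain ⟨e', he'⟩ := (((isCompl_compList s P).span hs).of_iso eP.symm).exists_iso
    (isCompl_toDerivedCompletion (I := I) K)
  let α := ((DerivedCategory.homologyFunctor (ModuleCat.{u} A) n).mapIso eP.symm).toLinearEquiv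
  let β := ((DerivedCategory.homologyFunctor (ModuleCat.{u} A) n).mapIso e').toLinearEquiv
  have h : Reduc I (β.toLinearMap ∘ₗ hM (compListη s P) n ∘ₗ α.toLinearMap) :=
    ((Reduc.of_equiv α).comp (reduc_compList s P hP n I fun g hg => hs ▸ Ideal.subset_span hg)).comp
      (Reduc.of_equiv β)
  have heq : ((DerivedCategory.homologyFunctor (ModuleCat.{u} A) n).map (DRing.toDerivedCompletion I K)).hom =
      β.toLinearMap ∘ₗ hM (compListη s P) n ∘ₗ α.toLinearMap := by
    rw [← he', Functor.map_comp, Functor.map_comp]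
    rfl
  haveI := hK n
  obtain ⟨e, he⟩ := exists_equiv_adicCompletion h fun f hf =>
    mem_dcIdealD.1 ((isCompl_toDerivedCompletion (I := I) K).mem hf) n
  exact ⟨e, fun x => by rw [heq]; exact he x⟩

end Groth.Agent.DComplLib
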