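import Groth.Agent.DComplLib.Series

/-!
# Derived complete modules: Nakayama, completeness, nilpotence, Henselianity
-/

set_option autoImplicit false

universe u v

open Function

noncomputable section

namespace Groth.Agent.DComplLib

variable {A : Type u} [CommRing A] {M : Type v} [AddCommGroup M] [Module A M]

theorem subsingleton_of_smul_top (s : List A) : ∀ {M : Type v} [AddCommGroup M] [Module A M],
    (∀ f ∈ s, DC f M) → Ideal.ofList s • (⊤ : Submodule A M) = ⊤ → Subsingleton M := by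
  induction s with
  | nil =>
    intro M _ _ _ h
    rw [Ideal.ofList_nil, Submodule.bot_smul] at h
    exact (Submodule.subsingleton_iff A).1 (subsingleton_of_bot_eq_top h)
  | cons f t ih =>
    intro M _ _ hM h
    refine ih (fun g hg => hM g (List.mem_cons_of_mem f hg)) ?_
    let S := Ideal.ofList t • (⊤ : Submodule A M)
    have hQ : DC f (M ⧸ S) := dc_quot_ideal_smul (hM f List.mem_cons_self) t
    have hdiv : ∀ n : M ⧸ S, ∃ n', n = f • n' := fun n => by
      obtain ⟨m, rfl⟩ := Submodule.mkQ_surjective S n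
      obtain ⟨a, ha, b, hb, hab⟩ : ∃ a ∈ Ideal.span {f} • (⊤ : Submodule A M), ∃ b ∈ S, a + b = m := by
        rw [← Submodule.mem_sup, ← Submodule.sup_smul, ← Ideal.ofList_cons, h]
        trivial
      rw [Submodule.ideal_span_singleton_smul, Submodule.mem_smul_pointwise_iff_exists] at ha
      obtain ⟨c, -, rfl⟩ := ha
      exact ⟨Submodule.mkQ S c, by rw [← hab, map_add, map_smul, Submodule.mkQ_apply S b,
        (Submodule.Quotient.mk_eq_zero S).2 hb, add_zero]⟩
    choose d hd using hdiv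
    refine Submodule.eq_top_iff'.2 fun m => (Submodule.Quotient.mk_eq_zero S).1 ?_
    exact hQ.eq_zero (x := fun k => Nat.rec (Submodule.Quotient.mk m) (fun _ p => d p) k) (fun k => hd _) 0

theorem mem_span_range_smul {ι : Type*} [Fintype ι] {c : ι → A} {x : M}
    (hx : x ∈ Ideal.span (Set.range c) • (⊤ : Submodule A M)) : ∃ b : ι → M, x = ∑ i, c i • b i := by
  classical
  refine Submodule.smul_induction_on hx (fun r hr m _ => ?_) fun x y ⟨b, hb⟩ ⟨b', hb'⟩ => ?_
  · obtain ⟨a, rfl⟩ := Ideal.mem_span_range_iff_exists_fun.1 hr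
    exact ⟨fun i => a i • m, by simp [Finset.sum_smul, smul_smul, mul_comm]⟩
  · exact ⟨b + b', by simp [hb, hb', smul_add, Finset.sum_add_distrib]⟩

theorem adicCompletion_of_surjective {I : Ideal A} (hI : I.FG) (hM : ∀ f ∈ I, DC f M) :
    Surjective (AdicCompletion.of I M) := by
  rw [AdicCompletion.of_surjective_iff]
  refine ⟨fun m hm => ?_⟩
  obtain ⟨s, hs⟩ := hI
  have hsI : ∀ g ∈ s, g ∈ I := fun g hg => hs ▸ Ideal.subset_span hg
  let J : ℕ → Ideal A := fun n => Ideal.span (Set.range fun g : s => (g : A) ^ n)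
  have hJI : ∀ n, J n ≤ I ^ n := fun n => Ideal.span_le.2 fun _ ⟨g, hg⟩ =>
    hg ▸ Ideal.pow_mem_pow (hsI g g.2) n
  have hN : ∀ n, ∃ N, I ^ N ≤ J n := fun n => by
    refine Ideal.exists_pow_le_of_le_radical_of_fg ?_ ⟨s, hs⟩
    exact (le_of_eq hs.symm).trans (Ideal.span_le.2 fun g hg => ⟨n, Ideal.subset_span ⟨⟨g, hg⟩, rfl⟩⟩)
  choose N hN using hN
  let φ : ℕ → ℕ := fun n => n + ∑ i ∈ Finset.range (n + 1), N i
  have hφ : Monotone φ := fun a b hab => Nat.add_le_add hab
    (Finset.sum_le_sum_of_subset (Finset.range_subset_range.2 (by omega)))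
  have hφN : ∀ n, N n ≤ φ n := fun n =>
    (Finset.single_le_sum (f := N) (fun i _ => Nat.zero_le _) (Finset.self_mem_range_succ n)).trans
      (Nat.le_add_left _ _)
  have hd : ∀ n, ∃ b : s → M, m (φ (n + 1)) - m (φ n) = ∑ g : s, (g : A) ^ n • b g := fun n =>
    mem_span_range_smul (Submodule.smul_mono_left
      ((Ideal.pow_le_pow_right (hφN n)).trans (hN n))
      (SModEq.sub_mem.1 (hm (hφ (Nat.le_succ n))).symm))
  choose b hb using hd
  have hg : ∀ g : s, DC (g : A) M := fun g => hM g (hsI g g.2)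
  refine ⟨m (φ 0) + ∑ g : s, (hg g).sum fun k => b k g, fun n => ?_⟩
  refine (hm (Nat.le_add_right n (∑ i ∈ Finset.range (n + 1), N i))).trans ?_
  have htel : m (φ n) - m (φ 0) = ∑ i ∈ Finset.range n, ∑ g : s, (g : A) ^ i • b i g :=
    (Finset.sum_range_sub (fun i => m (φ i)) n).symm.trans (Finset.sum_congr rfl fun i _ => hb i)
  rw [Finset.sum_comm] at htel
  have htot : m (φ 0) + ∑ g : s, (hg g).sum (fun k => b k g) =
      m (φ n) + ∑ g : s, (g : A) ^ n • (hg g).sum (fun i => b (n + i) g) := by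
    rw [Finset.sum_congr rfl fun g _ => (hg g).sum_trunc (fun k => b k g) n, Finset.sum_add_distrib, ← htel]
    abel
  rw [htot]
  refine SModEq.sub_mem.2 ?_
  rw [sub_add_cancel_left]
  exact neg_mem (sum_mem fun g _ => Submodule.smul_mem_smul (Ideal.pow_mem_pow (hsI g g.2) n) trivial)

theorem exists_pow_smul_eq_zero {f : A} (h : DC f M) (ht : ∀ m : M, ∃ n, f ^ n • m = 0) :
    ∃ N, ∀ m : M, f ^ N • m = 0 := by
  by_contra hcon
  push Not at hcon
  have hstrict : ∀ j, ∃ m : M, ∀ m' : M, f ^ j • m ≠ f ^ (j + 1) • m' := fun j => by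
    by_contra hj
    push Not at hj
    choose d hd using hj
    obtain ⟨m, hm⟩ := hcon j
    refine hm ?_
    let x : ℕ → M := fun k => Nat.rec m (fun _ p => d p) k
    exact h.eq_zero (x := fun k => f ^ j • x k) (fun k => by rw [smul_smul, ← pow_succ']; exact hd _) 0
  choose pick hpick using hstrict
  choose ord hord using ht
  have hordle : ∀ m n, ord m ≤ n → f ^ n • m = 0 := fun m n hn => by
    rw [← Nat.sub_add_cancel hn, pow_add, mul_smul, hord, smul_zero]
  let e : ℕ → ℕ := fun k => Nat.rec 0 (fun k p => max (max (k + 1) p) (ord (pick (p + k)))) k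
  let y : ℕ → M := fun k => pick (e k + k)
  have he : ∀ k, k ≤ e k := fun k => by
    cases k with
    | zero => exact le_rfl
    | succ k => exact (le_max_left _ _).trans (le_max_left _ _)
  have hmono : Monotone e := monotone_nat_of_le_succ fun k => (le_max_right _ _).trans (le_max_left _ _)
  have hy : ∀ i, ord (y i) ≤ e (i + 1) := fun i => le_max_right _ _
  let k := ord (h.sum y)
  have h0 : f ^ e k • h.sum y = 0 := hordle _ _ (he k)
  have hz : f ^ e k • (∑ i ∈ Finset.range k, f ^ i • y i) = 0 := by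
    rw [Finset.smul_sum]
    refine Finset.sum_eq_zero fun i hi => ?_
    rw [smul_comm, hordle _ _ ((hy i).trans (hmono (Finset.mem_range.1 hi))), smul_zero]
  rw [h.sum_trunc y k, smul_add, hz, zero_add, h.sum_step, smul_add, smul_add, add_zero, smul_smul, smul_smul,
    smul_smul, ← pow_add, ← pow_succ] at h0
  exact hpick (e k + k) (-h.sum fun i => y (k + (i + 1))) (by
    rw [smul_neg]
    exact eq_neg_of_add_eq_zero_left h0)

theorem exists_pow_smul_top_eq_bot {I : Ideal A} (hI : I.FG) (hM : ∀ f ∈ I, DC f M)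
    (ht : ∀ m : M, ∃ n : ℕ, ∀ a ∈ I ^ n, a • m = 0) : ∃ n : ℕ, I ^ n • (⊤ : Submodule A M) = ⊥ := by
  obtain ⟨s, hs⟩ := id hI
  have hle : I ≤ (Module.annihilator A M).radical := (le_of_eq hs.symm).trans (Ideal.span_le.2 fun g hg => by
    have hgI : g ∈ I := hs ▸ Ideal.subset_span hg
    obtain ⟨N, hN⟩ := exists_pow_smul_eq_zero (hM g hgI) fun m => by
      obtain ⟨n, hn⟩ := ht m
      exact ⟨n, hn _ (Ideal.pow_mem_pow hgI n)⟩
    exact ⟨N, Module.mem_annihilator.2 hN⟩)
  obtain ⟨n, hn⟩ := Ideal.exists_pow_le_of_le_radical_of_fg hle hI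
  refine ⟨n, le_bot_iff.1 (Submodule.smul_le.2 fun a ha m _ => ?_)⟩
  exact (Submodule.mem_bot A).2 (Module.mem_annihilator.1 (hn ha) m)

theorem smul_eq_zero_of_mem_iInf {f a : A} {m : M} (h : DC f M) (ha : ∀ n, f ^ n ∣ a)
    (hm : ∀ n, ∃ m', m = f ^ n • m') : a • m = 0 := by
  choose c hc using ha
  choose d hd using hm
  have := h.eq_zero (x := fun n => a • d n) (fun n => by
    have h1 : f ^ n • (d n - f • d (n + 1)) = 0 := by
      rw [smul_sub, smul_smul, ← pow_succ, ← hd, ← hd, sub_self]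
    rw [← sub_eq_zero, smul_comm f a, ← smul_sub, hc n, mul_comm, mul_smul, h1, smul_zero]) 0
  rw [hd 0, pow_zero, one_smul]
  exact this

theorem iInf_smul_iInf_eq_bot {f : A} (h : DC f M) :
    (⨅ n : ℕ, Ideal.span {f ^ n}) • (⨅ n : ℕ, (Ideal.span {f ^ n}) • (⊤ : Submodule A M)) = (⊥ : Submodule A M) := by
  refine le_bot_iff.1 (Submodule.smul_le.2 fun a ha m hm => (Submodule.mem_bot A).2 ?_)
  rw [Submodule.mem_iInf] at hm
  refine smul_eq_zero_of_mem_iInf h (fun n => Ideal.mem_span_singleton.1 ((Submodule.mem_iInf _).1 ha n)) fun n => ?_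
  have hn := hm n
  rw [Submodule.ideal_span_singleton_smul, Submodule.mem_smul_pointwise_iff_exists] at hn
  obtain ⟨c, -, hc⟩ := hn
  exact ⟨c, hc.symm⟩

theorem iInf_pow_pow_eq_bot (s : List A) : (∀ f ∈ s, DC f A) →
    (⨅ n : ℕ, Ideal.ofList s ^ n) ^ (2 ^ s.length) = ⊥ := by
  induction h : s.length generalizing A with
  | zero =>
    intro _
    rw [List.eq_nil_of_length_eq_zero h, pow_zero, pow_one, Ideal.ofList_nil]
    exact le_bot_iff.1 ((iInf_le _ 1).trans (le_of_eq (pow_one _)))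
  | succ r ih =>
    obtain ⟨f, t, rfl⟩ := List.exists_cons_of_length_eq_add_one h
    intro hA
    rw [List.length_cons, Nat.add_right_cancel_iff] at h
    let K := (⨅ n : ℕ, Ideal.ofList (f :: t) ^ n) ^ (2 ^ r)
    have hK : ∀ m, K ≤ Ideal.span {f ^ m} := fun m => by
      let q := Ideal.Quotient.mk (Ideal.span {f ^ m})
      have hdc : ∀ g ∈ t, DC (q g) (A ⧸ Ideal.span {f ^ m}) := fun g hg => by
        refine (dc_iff_of_smul_eq (f := g) (g := q g) fun x => (algebra_compatible_smul (A ⧸ Ideal.span {f ^ m}) g x).symm).2 ?_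
        have hg' := hA g (List.mem_cons_of_mem f hg)
        exact (dc_coker hg' hg' (LinearMap.lsmul A A (f ^ m))).of_equiv (Submodule.quotEquivOfEq _ _ (by
          ext x
          simp [Ideal.mem_span_singleton', mul_comm]))
      have h0 := ih (A := A ⧸ Ideal.span {f ^ m}) (t.map q) (by simpa using h) fun g hg => by
        obtain ⟨g', hg', rfl⟩ := List.mem_map.1 hg
        exact hdc g' hg'
      have hle : (⨅ n : ℕ, Ideal.ofList (f :: t) ^ n).map q ≤ ⨅ n : ℕ, Ideal.ofList (t.map q) ^ n := by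
        refine le_iInf fun n => (Ideal.map_mono (iInf_le _ (n + m))).trans ?_
        rw [Ideal.map_pow, Ideal.map_ofList, List.map_cons, Ideal.ofList_cons, Nat.add_comm, sup_comm]
        refine (Ideal.sup_pow_add_le_pow_sup_pow (n := n) (m := m)).trans_eq' (by rw [Nat.add_comm]) |>.trans ?_
        rw [Ideal.span_singleton_pow, ← map_pow,
          (Ideal.Quotient.eq_zero_iff_mem (I := Ideal.span {f ^ m})).2 (Ideal.mem_span_singleton_self _),
          Ideal.span_singleton_zero, sup_bot_eq]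
      intro x hx
      rw [← Ideal.Quotient.eq_zero_iff_mem]
      have := (Ideal.pow_right_mono hle (2 ^ r)) (by
        rw [← Ideal.map_pow]
        exact Ideal.mem_map_of_mem q hx)
      rw [h0] at this
      exact this
    rw [pow_succ, pow_mul, pow_two]
    refine le_bot_iff.1 ?_
    rw [← iInf_smul_iInf_eq_bot (M := A) (hA f List.mem_cons_self)]
    exact Submodule.smul_mono (le_iInf hK) (le_iInf fun n => (hK n).trans (le_of_eq (by simp)))

theorem isUnit_one_add {x : A} (h : DC x A) : IsUnit (1 + x) := by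
  have h' := h.mul_left (-1)
  refine isUnit_iff_exists_inv.2 ⟨h'.sum fun _ => 1, ?_⟩
  have := h'.sum_step fun _ => (1 : A)
  rw [smul_eq_mul] at this
  linear_combination this

theorem henselianRing_of_dc {I : Ideal A} (hA : ∀ f ∈ I, DC f A) : HenselianRing A I := by
  have hunit : ∀ x ∈ I, IsUnit (1 + x) := fun x hx => isUnit_one_add (hA x hx)
  refine ⟨fun x hx => Ideal.mem_jacobson_bot.2 fun y => ?_, fun p _ a₀ hI hd => ?_⟩
  · rw [add_comm]
    exact hunit _ (I.mul_mem_right y hx)
  · have hlift : ∀ a, a - a₀ ∈ I → IsUnit (p.derivative.eval a) := fun a ha => by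
      obtain ⟨w, hw⟩ := hd.exists_right_inv
      obtain ⟨w, rfl⟩ := Ideal.Quotient.mk_surjective w
      have h1 : p.derivative.eval a * w - 1 ∈ I := by
        obtain ⟨c, hc⟩ := Polynomial.sub_dvd_eval_sub a a₀ p.derivative
        have h2 : p.derivative.eval a₀ * w - 1 ∈ I := by
          rw [← Ideal.Quotient.eq, map_mul, map_one]
          exact hw
        rw [show p.derivative.eval a * w - 1 = (p.derivative.eval a₀ * w - 1) + (a - a₀) * (c * w) by
          linear_combination w * hc]
        exact add_mem h2 (I.mul_mem_right _ ha)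
      exact isUnit_of_mul_isUnit_left (by simpa using hunit _ h1)
    obtain ⟨h, hh⟩ : ∃ h, p.eval a₀ = h := ⟨_, rfl⟩
    rw [hh] at hI
    have hstep : ∀ (n : ℕ) (z : A), h ^ (n + 1) ∣ p.eval (a₀ + h * z) →
        ∃ d, h ^ (n + 2) ∣ p.eval (a₀ + h * (z + h ^ n * d)) := fun n z ⟨c, hc⟩ => by
      obtain ⟨u, hu⟩ := (hlift a₀ (by simp)).exists_right_inv
      obtain ⟨e, he⟩ := Polynomial.sub_dvd_eval_sub (a₀ + h * z) a₀ p.derivative
      obtain ⟨k, hk⟩ := Polynomial.binomExpansion p (a₀ + h * z) (-(h ^ (n + 1) * (u * c)))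
      refine ⟨-(u * c), -(z * e * u * c) + k * h ^ n * (u * c) ^ 2, ?_⟩
      rw [show a₀ + h * (z + h ^ n * -(u * c)) = a₀ + h * z + -(h ^ (n + 1) * (u * c)) by ring, hk, hc]
      linear_combination (-(h ^ (n + 1) * (u * c))) * he - (h ^ (n + 1) * c) * hu
    choose d hd' using hstep
    have H : ∀ n, ∃ z, h ^ (n + 1) ∣ p.eval (a₀ + h * z) := fun n => by
      induction n with
      | zero => exact ⟨0, by simp [hh]⟩
      | succ n ih => exact ⟨_, hd' n _ ih.choose_spec⟩
    let z : ∀ n, {z : A // h ^ (n + 1) ∣ p.eval (a₀ + h * z)} := fun n =>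
      Nat.rec (motive := fun n => {z : A // h ^ (n + 1) ∣ p.eval (a₀ + h * z)}) ⟨0, by simp [hh]⟩
        (fun n w => ⟨w.1 + h ^ n * d n w.1 w.2, hd' n w.1 w.2⟩) n
    let δ : ℕ → A := fun n => d n (z n).1 (z n).2
    have hz : ∀ n, (z n).1 = ∑ i ∈ Finset.range n, h ^ i • δ i := fun n => by
      induction n with
      | zero => rfl
      | succ n ih => rw [Finset.sum_range_succ, ← ih]; rfl
    have hH := hA h hI
    let a := a₀ + h * hH.sum δ
    have hr : ∀ n, h ^ n ∣ p.eval a := fun n => by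
      obtain ⟨c, hc⟩ := Polynomial.sub_dvd_eval_sub a (a₀ + h * (z n).1) p
      obtain ⟨c', hc'⟩ := (z n).2
      have e : a - (a₀ + h * (z n).1) = h ^ n * (h * hH.sum fun i => δ (n + i)) := by
        show a₀ + h * hH.sum δ - _ = _
        rw [hH.sum_trunc δ n, hz n, smul_eq_mul]
        ring
      refine ⟨h * (hH.sum fun i => δ (n + i)) * c + h * c', ?_⟩
      linear_combination hc + hc' + c * e
    obtain ⟨v, hv⟩ := (hlift a (by simpa [a] using I.mul_mem_right _ hI)).exists_right_inv
    have hsq : p.eval a * p.eval a = 0 :=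
      smul_eq_zero_of_mem_iInf (M := A) hH hr fun n => by
        obtain ⟨c, hc⟩ := hr n
        exact ⟨c, by rw [smul_eq_mul]; exact hc⟩
    obtain ⟨k, hk⟩ := Polynomial.binomExpansion p a (-(p.eval a * v))
    refine ⟨a + -(p.eval a * v), ?_, ?_⟩
    · rw [Polynomial.IsRoot, hk]
      linear_combination (-(p.eval a)) * hv + k * v ^ 2 * hsq
    · obtain ⟨c, hc⟩ := hr 1
      rw [show a + -(p.eval a * v) - a₀ = h * (hH.sum δ - c * v) by
        show a₀ + h * hH.sum δ + -(p.eval a * v) - a₀ = _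
        linear_combination (-v) * hc]
      exact I.mul_mem_right _ hI

end Groth.Agent.DComplLib
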