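import Groth.Prelude.Def_DRing3
import Groth.Agent.DComplLib.ModThms
import Groth.Agent.LocCohLib.Cls
import Groth.Agent.KInj.Derived
import Groth.Agent.KInj.Main
import Mathlib.Algebra.Homology.DerivedCategory.SingleTriangle
import Mathlib.Algebra.Homology.DerivedCategory.Linear
import Mathlib.Algebra.Homology.GrothendieckAbelian
import Mathlib.Algebra.Category.ModuleCat.AB

/-!
# Derived completeness through cohomology
-/

set_option autoImplicit false
set_option linter.style.haveILetI false
set_option backward.isDefEq.respectTransparency false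

universe u

open CategoryTheory Limits Pretriangulated
attribute [local instance] HasDerivedCategory.standard

noncomputable section

namespace Groth.Agent.DComplLib

open Groth.Agent.LocCohLib

variable {A : Type u} [CommRing A]

theorem hres (K : DRing.Cx A) : ∃ (I : DRing.Cx A) (φ : K ⟶ I), I.IsKInjective ∧ QuasiIso φ :=
  Groth.Agent.KInj.hres_of_isGrothendieckAbelian (ModuleCat.{u} A) K

theorem exists_kInjective (E : Dual.D A) : ∃ I : DRing.Cx A, I.IsKInjective ∧ Nonempty (DRing.toD I ≅ E) := by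
  obtain ⟨I, hI, ⟨e⟩⟩ := Groth.Agent.KInj.exists_kInjective_iso hres E
  exact ⟨I, hI, ⟨((DerivedCategory.quotientCompQhIso (ModuleCat.{u} A)).app I).symm ≪≫ e⟩⟩

theorem exists_Q_map {K I : DRing.Cx A} [I.IsKInjective] (f : DRing.toD K ⟶ DRing.toD I) :
    ∃ a : K ⟶ I, DerivedCategory.Q.map a = f := by
  let e := DerivedCategory.quotientCompQhIso (ModuleCat.{u} A)
  obtain ⟨b, hb⟩ := (CochainComplex.IsKInjective.Qh_map_bijective
    ((HomotopyCategory.quotient _ _).obj K) I).surjective (e.hom.app K ≫ f ≫ e.inv.app I)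
  obtain ⟨a, rfl⟩ := (HomotopyCategory.quotient _ _).map_surjective b
  refine ⟨a, ?_⟩
  have n := e.hom.naturality a
  dsimp at n
  rw [hb] at n
  simp only [Category.assoc, Iso.inv_hom_id_app] at n
  exact (cancel_epi (e.hom.app K)).1 (n.symm.trans (congrArg (e.hom.app K ≫ ·) (Category.comp_id f)))

theorem homotopic_of_Q_map_eq_zero {K I : DRing.Cx A} [I.IsKInjective] {a : K ⟶ I}
    (h : DerivedCategory.Q.map a = 0) : Nonempty (Homotopy a 0) := by
  refine (HomotopyCategory.quotient_map_eq_zero_iff a).1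
    ((CochainComplex.IsKInjective.Qh_map_bijective _ I).injective ?_)
  have n := (DerivedCategory.quotientCompQhIso (ModuleCat.{u} A)).hom.naturality a
  dsimp at n
  rw [h] at n
  replace n := n.trans comp_zero
  rw [Functor.map_zero, ← cancel_mono ((DerivedCategory.quotientCompQhIso (ModuleCat.{u} A)).hom.app I),
    zero_comp]
  exact n

theorem Q_map_eq_zero_of_homotopy {K I : DRing.Cx A} {a : K ⟶ I} (h : Homotopy a 0) :
    DerivedCategory.Q.map a = 0 := by
  have n := (DerivedCategory.quotientCompQhIso (ModuleCat.{u} A)).hom.naturality a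
  dsimp at n
  rw [(HomotopyCategory.quotient_map_eq_zero_iff a).2 ⟨h⟩, Functor.map_zero, zero_comp] at n
  exact (cancel_epi ((DerivedCategory.quotientCompQhIso (ModuleCat.{u} A)).hom.app K)).1
    (n.symm.trans comp_zero.symm)

/-- Cohomology of `Q K`. -/
def hQIso (K : DRing.Cx A) (n : ℤ) :
    ModuleCat.of A (Dual.HD A (DRing.toD K) n) ≅ K.homology n :=
  (DerivedCategory.homologyFunctorFactors (ModuleCat.{u} A) n).app K

theorem hQIso_natural {K L : DRing.Cx A} (a : K ⟶ L) (n : ℤ) :
    (DerivedCategory.homologyFunctor _ n).map (DerivedCategory.Q.map a) ≫ (hQIso L n).hom =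
      (hQIso K n).hom ≫ HomologicalComplex.homologyMap a n :=
  (DerivedCategory.homologyFunctorFactors (ModuleCat.{u} A) n).hom.naturality a

section Powers

/-- The complex of sequences in a complex. -/
def seqCx (I : DRing.Cx A) : DRing.Cx A where
  X i := ModuleCat.of A (ℕ → I.X i)
  d i j := ModuleCat.ofHom ((I.d i j).hom.compLeft ℕ)
  shape i j h := by
    ext x k
    simp [I.shape i j h]
    rfl
  d_comp_d' i j k _ _ := by
    ext x m
    exact congr($(I.d_comp_d i j k).hom (x m))

/-- The `k`-th term. -/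
def seqProj (I : DRing.Cx A) (k : ℕ) : seqCx I ⟶ I where
  f i := ModuleCat.ofHom (LinearMap.proj k)
  comm' _ _ _ := rfl

/-- `x ↦ (x k - f • x (k + 1))_k`. -/
def seqT (f : A) (I : DRing.Cx A) : seqCx I ⟶ seqCx I where
  f i := ModuleCat.ofHom (tMap f (I.X i))
  comm' i j _ := by
    ext x
    funext k
    show (I.d i j).hom (x k - f • x (k + 1)) = (I.d i j).hom (x k) - f • (I.d i j).hom (x (k + 1))
    rw [map_sub, map_smul]

theorem seqT_proj (f : A) (I : DRing.Cx A) (k : ℕ) :
    seqT f I ≫ seqProj I k = seqProj I k - f • seqProj I (k + 1) := by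
  ext i x
  rfl

/-- Assemble chain maps into sequences. -/
def seqLift {K I : DRing.Cx A} (g : ℕ → (K ⟶ I)) : K ⟶ seqCx I where
  f i := ModuleCat.ofHom (LinearMap.pi fun k => ((g k).f i).hom)
  comm' i j _ := by
    ext x
    funext k
    exact congr($((g k).comm i j).hom x)

theorem seqLift_proj {K I : DRing.Cx A} (g : ℕ → (K ⟶ I)) (k : ℕ) : seqLift g ≫ seqProj I k = g k := by
  ext i x
  rfl

/-- Assemble homotopies. -/
def seqHomotopy {K I : DRing.Cx A} {g g' : K ⟶ seqCx I}
    (H : ∀ k, Homotopy (g ≫ seqProj I k) (g' ≫ seqProj I k)) : Homotopy g g' where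
  hom i j := ModuleCat.ofHom (LinearMap.pi fun k => ((H k).hom i j).hom)
  zero i j h := by
    ext x k
    exact congr($((H k).zero i j h).hom x)
  comm i := by
    ext x
    funext k
    have e := congr($((H k).comm i).hom x)
    rw [dNext_eq _ (show (ComplexShape.up ℤ).Rel i (i + 1) from rfl),
      prevD_eq _ (show (ComplexShape.up ℤ).Rel (i - 1) i from by simp)] at e ⊢
    exact e

theorem seqT_quasiIso {f : A} {I : DRing.Cx A} (h : ∀ n, DC f (I.homology n)) : QuasiIso (seqT f I) := by
  refine ⟨fun n => (quasiIsoAt_iff_isIso_homologyMap _ _).2 ((ConcreteCategory.isIso_iff_bijective _).2 ⟨?_, ?_⟩)⟩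
  · refine (injective_iff_map_eq_zero (HomologicalComplex.homologyMap (seqT f I) n).hom).2 fun c hc => ?_
    obtain ⟨z, rfl⟩ := cls_surjective (seqCx I) n c
    rw [homologyMap_cls, cls_eq_zero_iff] at hc
    obtain ⟨w, hw⟩ := hc
    rw [cls_eq_zero_iff]
    let zk : ℕ → Zmod I n := fun k => mapZ n (seqProj I k) z
    have hrec : ∀ k, cls I n (zk k) = f • cls I n (zk (k + 1)) := fun k => by
      rw [← sub_eq_zero, ← map_smul, ← map_sub, cls_eq_zero_iff]
      exact ⟨w k, congrFun hw k⟩
    choose w' hw' using fun k => (cls_eq_zero_iff I n (zk k)).1 ((h n).eq_zero hrec k)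
    exact ⟨w', funext hw'⟩
  · intro c
    obtain ⟨z, rfl⟩ := cls_surjective (seqCx I) n c
    choose d hd using fun k =>
      cls_surjective I n ((h n).sol (fun j => cls I n (mapZ n (seqProj I j) z)) k)
    have hd' : ∀ k, cls I n (d k - f • d (k + 1) - mapZ n (seqProj I k) z) = 0 := fun k => by
      rw [map_sub, map_sub, map_smul, hd, hd, (h n).sol_spec]
      abel
    choose w hw using fun k => (cls_eq_zero_iff I n _).1 (hd' k)
    let D : Zmod (seqCx I) n := ⟨fun k => (d k : I.X n), by
      rw [LinearMap.mem_ker]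
      funext k
      exact LinearMap.mem_ker.1 (d k).2⟩
    refine ⟨cls (seqCx I) n D, ?_⟩
    change (HomologicalComplex.homologyMap (seqT f I) n).hom (cls (seqCx I) n D) = _
    rw [homologyMap_cls, ← sub_eq_zero, ← map_sub, cls_eq_zero_iff]
    exact ⟨w, funext hw⟩

end Powers

/-- If the cohomology of `E` is complete with respect to `f`, so are the modules of maps into `E`. -/
theorem dc_hom {f : A} (X E : Dual.D A) (h : ∀ n, DC f (Dual.HD A E n)) : DC f (X ⟶ E) := by
  obtain ⟨K, ⟨eX⟩⟩ : ∃ K : DRing.Cx A, Nonempty (DRing.toD K ≅ X) :=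
    ⟨_, ⟨DerivedCategory.Q.objObjPreimageIso X⟩⟩
  obtain ⟨I, hI, ⟨eE⟩⟩ := exists_kInjective E
  haveI := hI
  haveI : QuasiIso (seqT f I) := seqT_quasiIso fun n => (h n).of_equiv
    (((DerivedCategory.homologyFunctor _ n).mapIso eE).symm ≪≫ hQIso I n).toLinearEquiv
  suffices hI' : DC f (DRing.toD K ⟶ DRing.toD I) from
    hI'.of_equiv (Linear.homCongr A eX eE)
  have key : ∀ k, DerivedCategory.Q.map (seqT f I ≫ seqProj I k) =
      DerivedCategory.Q.map (seqProj I k) - f • DerivedCategory.Q.map (seqProj I (k + 1)) := fun k => by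
    rw [seqT_proj, Functor.map_sub, Functor.map_smul]
  refine dc_of (fun y => ?_) fun x hx => ?_
  · choose g hg using fun k => exists_Q_map (y k)
    refine ⟨fun k => DerivedCategory.Q.map (seqLift g) ≫ inv (DerivedCategory.Q.map (seqT f I)) ≫
      DerivedCategory.Q.map (seqProj I k), fun k => ?_⟩
    dsimp only
    rw [← sub_eq_iff_eq_add, ← Linear.comp_smul, ← Linear.comp_smul, ← Preadditive.comp_sub,
      ← Preadditive.comp_sub, ← key k, Functor.map_comp, IsIso.inv_hom_id_assoc, ← Functor.map_comp,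
      seqLift_proj, hg]
  · choose g hg using fun k => exists_Q_map (x k)
    have H : ∀ k, Nonempty (Homotopy ((seqLift g ≫ seqT f I) ≫ seqProj I k) ((0 : K ⟶ seqCx I) ≫ seqProj I k)) :=
      fun k => by
        rw [zero_comp]
        refine homotopic_of_Q_map_eq_zero ?_
        rw [Category.assoc, seqT_proj, Preadditive.comp_sub, Linear.comp_smul, seqLift_proj, seqLift_proj,
          Functor.map_sub, Functor.map_smul, hg, hg, ← hx k, sub_self]
    have h0 := Q_map_eq_zero_of_homotopy (seqHomotopy fun k => (H k).some)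
    rw [Functor.map_comp, ← cancel_mono (inv (DerivedCategory.Q.map (seqT f I))), Category.assoc,
      IsIso.hom_inv_id, Category.comp_id, zero_comp] at h0
    rw [← hg 0, ← seqLift_proj g 0, Functor.map_comp, h0, zero_comp]

/-- No maps from an object on which `f` is invertible. -/
theorem eq_zero_of_isIso_smul {f : A} {X E : Dual.D A} (h : ∀ n, DC f (Dual.HD A E n))
    [IsIso (f • 𝟙 X)] (φ : X ⟶ E) : φ = 0 := by
  let x : ℕ → (X ⟶ E) := fun k => Nat.rec φ (fun _ p => inv (f • 𝟙 X) ≫ p) k
  refine (dc_hom X E h).eq_zero (x := x) (fun k => ?_) 0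
  show x k = f • (inv (f • 𝟙 X) ≫ x k)
  calc x k = (f • 𝟙 X) ≫ inv (f • 𝟙 X) ≫ x k := (IsIso.hom_inv_id_assoc _ _).symm
    _ = f • (inv (f • 𝟙 X) ≫ x k) := by rw [Linear.smul_comp, Category.id_comp]

end Groth.Agent.DComplLib
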