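import Mathlib

/-!
# Series with respect to one element

`DC f M`: for every sequence `y` in the `A`-module `M` there is exactly one sequence `x` with
`x k = y k + f • x (k + 1)`; then `x 0` plays the role of the sum `∑ f ^ i • y i`.
For modules this is derived completeness with respect to `f`.
-/

set_option autoImplicit false

universe u v

open Function

noncomputable section

namespace Groth.Agent.DComplLib

variable {A : Type u} [CommRing A]

/-- `x ↦ (x k - f • x (k + 1))_k`. -/
def tMap (f : A) (M : Type v) [AddCommGroup M] [Module A M] : (ℕ → M) →ₗ[A] (ℕ → M) where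
  toFun x k := x k - f • x (k + 1)
  map_add' x y := funext fun k => by simp only [Pi.add_apply, smul_add]; abel
  map_smul' a x := funext fun k => by
    simp only [Pi.smul_apply, RingHom.id_apply, smul_sub, smul_comm f a]

/-- `M` is derived complete with respect to `f`. -/
def DC (f : A) (M : Type v) [AddCommGroup M] [Module A M] : Prop := Bijective (tMap f M)

section

variable {f : A} {M : Type v} [AddCommGroup M] [Module A M]

theorem dc_of (hex : ∀ y : ℕ → M, ∃ x : ℕ → M, ∀ k, x k = y k + f • x (k + 1))
    (huniq : ∀ x : ℕ → M, (∀ k, x k = f • x (k + 1)) → x 0 = 0) : DC f M := by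
  refine ⟨(injective_iff_map_eq_zero _).2 fun x hx => funext fun k => ?_, fun y => ?_⟩
  · exact huniq (fun j => x (k + j)) fun j => sub_eq_zero.1 (congrFun hx (k + j))
  · obtain ⟨x, hx⟩ := hex y
    exact ⟨x, funext fun k => sub_eq_iff_eq_add.2 (hx k)⟩

variable (h : DC f M)

/-- The solution of `x k = y k + f • x (k + 1)`. -/
def DC.sol : (ℕ → M) →ₗ[A] (ℕ → M) := (LinearEquiv.ofBijective (tMap f M) h).symm.toLinearMap

theorem DC.sol_spec (y : ℕ → M) (k : ℕ) : h.sol y k = y k + f • h.sol y (k + 1) :=
  sub_eq_iff_eq_add.1 (congrFun ((LinearEquiv.ofBijective (tMap f M) h).apply_symm_apply y) k)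

include h in
theorem DC.ext {y x x' : ℕ → M} (hx : ∀ k, x k = y k + f • x (k + 1))
    (hx' : ∀ k, x' k = y k + f • x' (k + 1)) : x = x' :=
  h.1 (funext fun k => (sub_eq_iff_eq_add.2 (hx k)).trans (sub_eq_iff_eq_add.2 (hx' k)).symm)

include h in
theorem DC.eq_zero {x : ℕ → M} (hx : ∀ k, x k = f • x (k + 1)) (k : ℕ) : x k = 0 :=
  congrFun (h.1 (a₁ := x) (a₂ := 0) ((funext fun j => sub_eq_zero.2 (hx j)).trans (map_zero _).symm)) k

theorem DC.sol_eq {y x : ℕ → M} (hx : ∀ k, x k = y k + f • x (k + 1)) : h.sol y = x :=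
  h.ext (h.sol_spec y) hx

theorem DC.sol_shift (y : ℕ → M) (k j : ℕ) : h.sol (fun i => y (j + i)) k = h.sol y (j + k) :=
  congrFun (h.sol_eq (x := fun k => h.sol y (j + k)) fun k => h.sol_spec y (j + k)) k

/-- The series `∑ f ^ i • y i`. -/
def DC.sum : (ℕ → M) →ₗ[A] M := (LinearMap.proj 0).comp h.sol

theorem DC.sum_step (y : ℕ → M) : h.sum y = y 0 + f • h.sum (fun i => y (i + 1)) := by
  refine (h.sol_spec y 0).trans (congrArg (fun t => y 0 + f • t) ?_)
  have := h.sol_shift y 0 1
  simp only [Nat.add_comm 1] at this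
  exact this.symm

theorem DC.sol_eq_sum (y : ℕ → M) (k : ℕ) : h.sol y k = h.sum fun i => y (k + i) :=
  (h.sol_shift y 0 k).symm

/-- Truncation of a series. -/
theorem DC.sum_trunc (y : ℕ → M) (n : ℕ) :
    h.sum y = (∑ i ∈ Finset.range n, f ^ i • y i) + f ^ n • h.sum (fun i => y (n + i)) := by
  induction n with
  | zero => simp
  | succ n ih =>
    rw [ih, h.sum_step (fun i => y (n + i)), Finset.sum_range_succ, smul_add, smul_smul, ← pow_succ, add_assoc]
    simp only [add_zero, Nat.add_assoc, Nat.add_comm 1]

include h in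
theorem DC.mul_left (a : A) : DC (a * f) M := by
  refine dc_of (fun y => ⟨fun k => h.sum fun i => a ^ i • y (k + i), fun k => ?_⟩) fun x hx => ?_
  · have hf : (fun i => a ^ (i + 1) • y (k + (i + 1))) = a • fun i => a ^ i • y (k + 1 + i) := by
      funext i
      rw [Pi.smul_apply, pow_succ', mul_smul, Nat.add_assoc k 1 i, Nat.add_comm i 1]
    dsimp only
    rw [h.sum_step, hf, map_smul, smul_smul, mul_comm f a, add_zero, pow_zero, one_smul]
  · have := h.eq_zero (x := fun k => a ^ k • x k) (fun k => by
      rw [hx k, smul_smul, smul_smul, pow_succ]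
      congr 1
      ring) 0
    simpa using this

include h in
theorem DC.add {g : A} (hg : DC g M) : DC (f + g) M := by
  refine dc_of (fun y => ?_) fun x hx => ?_
  · let S : ℕ → ℕ → M := fun k p => hg.sum fun q => (Nat.choose (p + q) p : A) • y (k + p + q)
    have hS0 : ∀ k, S k 0 = y k + g • S (k + 1) 0 := fun k => by
      show hg.sum _ = _
      rw [hg.sum_step]
      simp [S, Nat.add_assoc, Nat.add_comm 1]
    have hS : ∀ k p, S k (p + 1) = S (k + 1) p + g • S (k + 1) (p + 1) := fun k p => by
      show hg.sum _ = _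
      have e : (fun q => (Nat.choose (p + 1 + q) (p + 1) : A) • y (k + (p + 1) + q)) =
          (fun q => (Nat.choose (p + q) p : A) • y (k + 1 + p + q)) +
            fun q => (Nat.choose (p + q) (p + 1) : A) • y (k + 1 + p + q) := by
        funext q
        rw [Pi.add_apply, ← add_smul, ← Nat.cast_add, ← Nat.choose_succ_succ,
          show p + 1 + q = p + q + 1 by omega, show k + (p + 1) + q = k + 1 + p + q by omega]
      rw [e, map_add, hg.sum_step fun q => (Nat.choose (p + q) (p + 1) : A) • y (k + 1 + p + q)]
      have e2 : (fun q => (Nat.choose (p + (q + 1)) (p + 1) : A) • y (k + 1 + p + (q + 1))) =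
          fun q => (Nat.choose (p + 1 + q) (p + 1) : A) • y (k + 1 + (p + 1) + q) := by
        funext q
        rw [show p + (q + 1) = p + 1 + q by omega, show k + 1 + p + (q + 1) = k + 1 + (p + 1) + q by omega]
      rw [e2]
      simp [S]
    refine ⟨fun k => h.sum (S k), fun k => ?_⟩
    have e3 : S k = (fun p => if p = 0 then y k else S (k + 1) (p - 1)) + g • S (k + 1) := by
      funext p
      cases p with
      | zero => simpa using hS0 k
      | succ p => simpa using hS k p
    show h.sum (S k) = _
    rw [e3, map_add, map_smul, h.sum_step]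
    simp [add_smul, add_assoc]
  · let X : ℕ → ℕ → M := fun m => m.rec x fun _ prev k => h.sum fun p => prev (k + p)
    have hX : ∀ m k, X m k = (f + g) • X m (k + 1) := fun m => by
      induction m with
      | zero => exact hx
      | succ m ih =>
        intro k
        show h.sum (fun p => X m (k + p)) = (f + g) • h.sum fun p => X m (k + 1 + p)
        rw [← map_smul]
        congr 1
        funext p
        rw [Pi.smul_apply, ih (k + p), show k + 1 + p = k + p + 1 by omega]
    have hstep : ∀ m k, X m k = g • X (m + 1) (k + 1) := fun m k => by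
      have key : X m = h.sol fun j => g • X m (j + 1) :=
        (h.sol_eq fun j => by rw [hX m j, add_smul, add_comm]).symm
      conv_lhs => rw [key, h.sol_eq_sum]
      show _ = g • h.sum fun p => X m (k + 1 + p)
      rw [← map_smul]
      congr 1
      funext p
      rw [Pi.smul_apply, show k + 1 + p = k + p + 1 by omega]
    exact hg.eq_zero (x := fun m => X m m) (fun m => hstep m m) 0

theorem dc_zero : DC (0 : A) M :=
  dc_of (fun y => ⟨y, fun k => by rw [zero_smul, add_zero]⟩) fun x hx => by rw [hx 0, zero_smul]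

theorem dc_of_pow {n : ℕ} (hn : DC (f ^ n) M) (hn0 : n ≠ 0) : DC f M := by
  refine dc_of (fun y => ?_) fun x hx => ?_
  · let b : ℕ → M := fun k => ∑ i ∈ Finset.range n, f ^ i • y (k + i)
    let x : ℕ → M := fun k => hn.sum fun j => b (k + j * n)
    have hxn : ∀ k, x k = b k + f ^ n • x (k + n) := fun k => by
      show hn.sum _ = _
      rw [hn.sum_step]
      simp [x, Nat.succ_mul, Nat.add_assoc, Nat.add_comm n]
    refine ⟨x, fun k => ?_⟩
    let D : ℕ → M := fun k => x k - y k - f • x (k + 1)
    have hD : ∀ k, D k = f ^ n • D (k + n) := fun k => by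
      have hb : b k + f ^ n • y (k + n) = y k + f • b (k + 1) := by
        have e1 : (∑ i ∈ Finset.range (n + 1), f ^ i • y (k + i)) = b k + f ^ n • y (k + n) :=
          Finset.sum_range_succ _ _
        rw [← e1, Finset.sum_range_succ', Finset.smul_sum, add_comm]
        simp [smul_smul, pow_succ', Nat.add_assoc, Nat.add_comm 1]
      show x k - y k - f • x (k + 1) = f ^ n • (x (k + n) - y (k + n) - f • x (k + n + 1))
      rw [hxn k, hxn (k + 1), show k + 1 + n = k + n + 1 by omega, smul_sub, smul_sub, smul_add,
        smul_smul f, smul_smul (f ^ n) f, mul_comm f (f ^ n), eq_sub_of_add_eq hb]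
      abel
    have hD0 : D k = 0 := by
      have := hn.eq_zero (x := fun j => D (k + j * n)) (fun j => by
        rw [hD (k + j * n), Nat.succ_mul, Nat.add_assoc]) 0
      simpa using this
    have h' := sub_eq_zero.1 hD0
    rw [sub_eq_iff_eq_add] at h'
    rw [h', add_comm]
  · have hp : ∀ m k, x k = f ^ m • x (k + m) := fun m => by
      induction m with
      | zero => intro k; simp
      | succ m ih => intro k; rw [ih k, hx (k + m), smul_smul, ← pow_succ, Nat.add_assoc]
    have := hn.eq_zero (x := fun j => x (j * n)) (fun j => by rw [hp n (j * n), Nat.succ_mul]) 0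
    simpa using this

/-- The set of elements with respect to which `M` is derived complete, as an ideal. -/
def dcIdeal (M : Type v) [AddCommGroup M] [Module A M] : Ideal A where
  carrier := {f | DC f M}
  zero_mem' := dc_zero
  add_mem' hf hg := hf.add hg
  smul_mem' a _ hf := hf.mul_left a

theorem mem_dcIdeal : f ∈ dcIdeal M ↔ DC f M := Iff.rfl

theorem dcIdeal_isRadical : (dcIdeal (A := A) M).IsRadical := fun f hf => by
  obtain ⟨n, hn⟩ := hf
  rcases eq_or_ne n 0 with rfl | h0
  · have := mem_dcIdeal.1 hn
    rw [pow_zero] at this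
    simpa [mem_dcIdeal] using this.mul_left f
  · exact dc_of_pow hn h0

theorem le_dcIdeal_of_span {I : Ideal A} {s : Set A} (hs : Ideal.span s = I) (h : ∀ f ∈ s, DC f M) :
    I ≤ dcIdeal M := hs ▸ Ideal.span_le.2 h

end

section Closure

variable {f : A} {M N P : Type v} [AddCommGroup M] [Module A M] [AddCommGroup N] [Module A N]
  [AddCommGroup P] [Module A P]

theorem DC.map_sum (hM : DC f M) (hN : DC f N) (u : M →ₗ[A] N) (y : ℕ → M) :
    u (hM.sum y) = hN.sum fun i => u (y i) :=
  (congrFun (hN.sol_eq (x := fun k => u (hM.sol y k)) fun k => by rw [hM.sol_spec y k, map_add, map_smul]) 0).symm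

theorem DC.of_equiv (hM : DC f M) (e : M ≃ₗ[A] N) : DC f N :=
  dc_of (fun y => ⟨fun k => e (hM.sol (fun i => e.symm (y i)) k), fun k => by
      dsimp only
      rw [hM.sol_spec, map_add, map_smul, e.apply_symm_apply]⟩) fun x hx => by
    have := hM.eq_zero (x := fun k => e.symm (x k)) (fun k => by rw [hx k, map_smul]) 0
    simpa using this

theorem DC.of_sub_quot (u : M →ₗ[A] N) (g : N →ₗ[A] P) (hu : Injective u) (hg : Surjective g)
    (hex : LinearMap.ker g = LinearMap.range u) (hM : DC f M) (hP : DC f P) : DC f N := by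
  refine dc_of (fun y => ?_) fun x hx => ?_
  · choose s hs using hg
    let x₀ : ℕ → N := fun k => s (hP.sol (fun i => g (y i)) k)
    have hk : ∀ k, ∃ m, u m = y k + f • x₀ (k + 1) - x₀ k := fun k => by
      rw [← LinearMap.mem_range, ← hex, LinearMap.mem_ker, map_sub, map_add, map_smul, hs, hs,
        ← hP.sol_spec (fun i => g (y i)) k, sub_self]
    choose m hm using hk
    refine ⟨fun k => x₀ k + u (hM.sol m k), fun k => ?_⟩
    dsimp only
    rw [hM.sol_spec, map_add, hm, map_smul, smul_add]
    abel
  · have hgx := hP.eq_zero (x := fun k => g (x k)) fun k => by rw [hx k, map_smul]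
    have hm : ∀ k, ∃ m, u m = x k := fun k => by
      rw [← LinearMap.mem_range, ← hex, LinearMap.mem_ker]
      exact hgx k
    choose m hm using hm
    rw [← hm 0, hM.eq_zero (x := m) (fun k => hu (by rw [map_smul, hm, hm]; exact hx k)) 0, map_zero]

theorem dc_ker (hM : DC f M) (hN : DC f N) (u : M →ₗ[A] N) : DC f (LinearMap.ker u) :=
  dc_of (fun y => by
    have hz := hN.sol_eq (y := fun i => u (y i)) (x := fun k => u (hM.sol (fun i => (y i : M)) k))
      fun k => by rw [hM.sol_spec, map_add, map_smul]
    have h0 : (fun i => u (y i : M)) = 0 := funext fun i => (y i).2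
    rw [h0, map_zero] at hz
    exact ⟨fun k => ⟨hM.sol (fun i => (y i : M)) k, (congrFun hz k).symm⟩,
      fun k => Subtype.ext (hM.sol_spec _ k)⟩) fun x hx =>
    Subtype.ext (hM.eq_zero (x := fun k => (x k : M)) (fun k => congrArg Subtype.val (hx k)) 0)

theorem dc_coker (hM : DC f M) (hN : DC f N) (u : M →ₗ[A] N) : DC f (N ⧸ LinearMap.range u) := by
  refine dc_of (fun y => ?_) fun x hx => ?_
  · choose y' hy using fun k => Submodule.mkQ_surjective (LinearMap.range u) (y k)
    exact ⟨fun k => Submodule.mkQ _ (hN.sol y' k), fun k => by dsimp only; rw [hN.sol_spec, map_add, map_smul, hy]⟩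
  · choose x' hx' using fun k => Submodule.mkQ_surjective (LinearMap.range u) (x k)
    have hm : ∀ k, ∃ m, u m = x' k - f • x' (k + 1) := fun k => by
      rw [← LinearMap.mem_range, ← Submodule.Quotient.mk_eq_zero (LinearMap.range u), ← Submodule.mkQ_apply,
        map_sub, map_smul, hx', hx', ← hx k, sub_self]
    choose m hm using hm
    have e : hN.sol (fun k => u (m k)) = x' := hN.sol_eq fun k => by rw [hm k, sub_add_cancel]
    have e' : hN.sol (fun k => u (m k)) = fun k => u (hM.sol m k) :=
      hN.sol_eq fun k => by rw [hM.sol_spec, map_add, map_smul]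
    rw [← hx' 0, ← congrFun e 0, congrFun e' 0]
    exact (Submodule.Quotient.mk_eq_zero _).2 ⟨_, rfl⟩

theorem dc_range (hM : DC f M) (hN : DC f N) (u : M →ₗ[A] N) : DC f (LinearMap.range u) :=
  dc_of (fun y => by
    choose m hm using fun k => (y k).2
    exact ⟨fun k => ⟨u (hM.sol m k), hM.sol m k, rfl⟩, fun k => Subtype.ext (by
      show u _ = (y k : N) + f • u _
      rw [hM.sol_spec, map_add, map_smul, hm])⟩) fun x hx =>
    Subtype.ext (hN.eq_zero (x := fun k => (x k : N)) (fun k => congrArg Subtype.val (hx k)) 0)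

theorem dc_pi {ι : Type*} {M : ι → Type v} [∀ i, AddCommGroup (M i)] [∀ i, Module A (M i)]
    (h : ∀ i, DC f (M i)) : DC f (∀ i, M i) :=
  dc_of (fun y => ⟨fun k i => (h i).sol (fun j => y j i) k, fun k => funext fun i => (h i).sol_spec _ k⟩)
    fun x hx => funext fun i => (h i).eq_zero (x := fun k => x k i) (fun k => congrFun (hx k) i) 0

theorem dc_of_subsingleton [Subsingleton M] : DC f M :=
  dc_of (fun y => ⟨y, fun k => Subsingleton.elim _ _⟩) fun _ _ => Subsingleton.elim _ _

/-- Derived completeness only depends on the action of `f`. -/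
theorem dc_iff_of_smul_eq {B : Type*} [CommRing B] [Module B M] {g : B} (h : ∀ m : M, g • m = f • m) :
    DC g M ↔ DC f M := by
  have e : (tMap g M : (ℕ → M) → (ℕ → M)) = tMap f M := funext fun x => funext fun k => congrArg _ (h _)
  exact iff_of_eq (congrArg Bijective e)

theorem dc_quot_ideal_smul {M : Type v} [AddCommGroup M] [Module A M] (hM : DC f M) :
    ∀ s : List A, DC f (M ⧸ Ideal.ofList s • (⊤ : Submodule A M))
  | s => by
    let u : (Fin s.length → M) →ₗ[A] M := ∑ i : Fin s.length, s[i] • LinearMap.proj i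
    have hu : LinearMap.range u = Ideal.ofList s • (⊤ : Submodule A M) := by
      refine le_antisymm ?_ (Submodule.smul_le.2 fun a ha m _ => ?_)
      · rintro _ ⟨v, rfl⟩
        simp only [u, LinearMap.coe_sum, Finset.sum_apply]
        exact sum_mem fun i _ => Submodule.smul_mem_smul (Ideal.subset_span (List.getElem_mem i.2)) trivial
      · refine Submodule.span_induction (p := fun a _ => a • m ∈ LinearMap.range u) (fun a ha => ?_) ?_ ?_ ?_ ha
        · obtain ⟨i, hi⟩ := List.get_of_mem ha
          exact ⟨Pi.single i m, by simp [u, Pi.single_apply, ← hi]⟩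
        · rw [zero_smul]; exact zero_mem _
        · exact fun _ _ _ _ h1 h2 => by rw [add_smul]; exact add_mem h1 h2
        · exact fun c _ _ h1 => by rw [smul_eq_mul, mul_smul]; exact Submodule.smul_mem _ c h1
    exact (dc_coker (dc_pi fun _ => hM) hM u).of_equiv (Submodule.quotEquivOfEq _ _ hu)

end Closure

theorem dc_of_isAdicComplete {I : Ideal A} {M : Type v} [AddCommGroup M] [Module A M] [IsAdicComplete I M]
    {f : A} (hf : f ∈ I) : DC f M := by
  have hmem : ∀ (n : ℕ) (m : M), f ^ n • m ∈ I ^ n • (⊤ : Submodule A M) := fun n m =>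
    Submodule.smul_mem_smul (Ideal.pow_mem_pow hf n) trivial
  refine dc_of (fun y => ?_) fun x hx => ?_
  · let S : ℕ → ℕ → M := fun k n => ∑ i ∈ Finset.range n, f ^ i • y (k + i)
    have hS : ∀ k {m n : ℕ}, m ≤ n → S k m ≡ S k n [SMOD (I ^ m • ⊤ : Submodule A M)] := fun k m n hmn => by
      rw [SModEq.sub_mem]
      have := Finset.sum_range_add_sum_Ico (fun i => f ^ i • y (k + i)) hmn
      show S k m - S k n ∈ _
      rw [show S k n = S k m + ∑ i ∈ Finset.Ico m n, f ^ i • y (k + i) from this.symm, sub_add_cancel_left]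
      exact neg_mem (sum_mem fun i hi =>
        Submodule.smul_mono_left (Ideal.pow_le_pow_right (Finset.mem_Ico.1 hi).1) (hmem i _))
    choose x hx using fun k => IsPrecomplete.prec (inferInstance : IsPrecomplete I M) (f := S k) (hS k)
    refine ⟨x, fun k => sub_eq_zero.1 (IsHausdorff.haus (inferInstance : IsHausdorff I M) _ fun n => ?_)⟩
    rw [SModEq.zero]
    have h1 := SModEq.sub_mem.1 (hx k (n + 1))
    have h2 := SModEq.sub_mem.1 (hx (k + 1) n)
    have e : S k (n + 1) = y k + f • S (k + 1) n := by
      simp only [S, Finset.sum_range_succ', Finset.smul_sum, smul_smul, ← pow_succ', pow_zero, one_smul,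
        add_zero, add_comm _ (y k)]
      congr 1
      exact Finset.sum_congr rfl fun i _ => by rw [show k + (i + 1) = k + 1 + i by omega]
    rw [e] at h1
    have : x k - (y k + f • x (k + 1)) =
        f • (S (k + 1) n - x (k + 1)) - (y k + f • S (k + 1) n - x k) := by
      rw [smul_sub]; abel
    rw [this]
    exact sub_mem (Submodule.smul_mem _ _ h2)
      (Submodule.smul_mono_left (Ideal.pow_le_pow_right (Nat.le_succ n)) h1)
  · refine IsHausdorff.haus (inferInstance : IsHausdorff I M) _ fun n => SModEq.zero.2 ?_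
    have hp : ∀ m, x 0 = f ^ m • x m := fun m => by
      induction m with
      | zero => simp
      | succ m ih => rw [ih, hx m, smul_smul, ← pow_succ]
    rw [hp n]
    exact hmem n _

end Groth.Agent.DComplLib
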