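import Groth.Agent.DComplLib.Crit

/-!
# Maps out of projective modules and the criterion for derived completeness
-/

set_option autoImplicit false
set_option linter.style.haveILetI false
set_option backward.isDefEq.respectTransparency false

universe u

open CategoryTheory Limits Pretriangulated HomologicalComplex
attribute [local instance] HasDerivedCategory.standard

noncomputable section

namespace Groth.Agent.DComplLib

variable {A : Type u} [CommRing A]

/-- The module as a complex in degree `0`. -/
abbrev sgl (P : ModuleCat.{u} A) : DRing.Cx A :=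
  (HomologicalComplex.single (ModuleCat.{u} A) (ComplexShape.up ℤ) 0).obj P

section ProjectiveSingle

variable {P : ModuleCat.{u} A} [Projective P] {K : DRing.Cx A}

theorem exists_homologyMap_eq (γ : (sgl P).homology 0 ⟶ K.homology 0) :
    ∃ a : sgl P ⟶ K, homologyMap a 0 = γ := by
  let α := (singleObjHomologySelfIso (ComplexShape.up ℤ) 0 P).inv ≫ γ
  let z := Projective.factorThru α (K.homologyπ 0)
  let a : sgl P ⟶ K := mkHomFromSingle (z ≫ K.iCycles 0) fun j _ => by
    rw [Category.assoc, K.iCycles_d, comp_zero]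
  refine ⟨a, ?_⟩
  have hc : cyclesMap a 0 = (singleObjCyclesSelfIso (ComplexShape.up ℤ) 0 P).hom ≫ z := by
    rw [← cancel_mono (K.iCycles 0), cyclesMap_i, mkHomFromSingle_f, Category.assoc,
      singleObjCyclesSelfIso_hom, Category.assoc]
  rw [← cancel_epi ((sgl P).homologyπ 0), homologyπ_naturality, hc, Category.assoc]
  rw [Projective.factorThru_comp, ← homologyπ_singleObjHomologySelfIso_hom, Category.assoc]
  simp [α]

theorem homotopic_of_homologyMap_eq_zero (a : sgl P ⟶ K) (h : homologyMap a 0 = 0) :
    Nonempty (Homotopy a 0) := by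
  let z := (singleObjCyclesSelfIso (ComplexShape.up ℤ) 0 P).inv ≫ cyclesMap a 0
  have hz : z ≫ K.homologyπ 0 = 0 := by
    rw [Category.assoc, ← homologyπ_naturality, h, comp_zero, comp_zero]
  obtain ⟨Q', π, hπ, x, hx⟩ :=
    (K.comp_homologyπ_eq_zero_iff_up_to_refinements (-1) 0 (by simp) z).1 hz
  haveI := hπ
  let w := Projective.factorThru (𝟙 P) π ≫ x
  have hw : w ≫ K.d (-1) 0 = (singleObjXSelf (ComplexShape.up ℤ) 0 P).inv ≫ a.f 0 := by
    rw [Category.assoc, ← K.toCycles_i, ← reassoc_of% hx, Projective.factorThru_comp_assoc, Category.id_comp,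
      Category.assoc, cyclesMap_i, singleObjCyclesSelfIso_inv_iCycles_assoc]
  let hh : ∀ i j, (ComplexShape.up ℤ).Rel j i → ((sgl P).X i ⟶ K.X j) := fun i j hij =>
    if hi : i = 0 then (singleObjXIsoOfEq (ComplexShape.up ℤ) 0 P i hi).hom ≫ w ≫
      (K.XIsoOfEq (show (-1 : ℤ) = j by simp only [ComplexShape.up_Rel] at hij; omega)).hom
    else 0
  have e : a = Homotopy.nullHomotopicMap' hh := by
    apply HomologicalComplex.from_single_hom_ext
    rw [Homotopy.nullHomotopicMap'_f (show (ComplexShape.up ℤ).Rel (-1) 0 by simp)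
      (show (ComplexShape.up ℤ).Rel 0 1 by simp), single_obj_d, zero_comp, zero_add]
    simp only [hh, dif_pos, XIsoOfEq_rfl, Iso.refl_hom, Category.comp_id, Category.assoc, hw]
    exact (Iso.hom_inv_id_assoc _ _).symm
  exact ⟨(Homotopy.ofEq e).trans (Homotopy.nullHomotopy' hh)⟩

end ProjectiveSingle

/-- `Hom(P[0], X) → Hom(P, H⁰ X)`. -/
def toH0 (P : ModuleCat.{u} A) (X : Dual.D A) (φ : (DerivedCategory.singleFunctor _ 0).obj P ⟶ X) :
    P ⟶ (DerivedCategory.homologyFunctor (ModuleCat.{u} A) 0).obj X :=
  (DerivedCategory.singleFunctorCompHomologyFunctorIso (ModuleCat.{u} A) 0).inv.app P ≫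
    (DerivedCategory.homologyFunctor _ 0).map φ

theorem toH0_comp {P P' : ModuleCat.{u} A} (g : P ⟶ P') (X : Dual.D A)
    (φ : (DerivedCategory.singleFunctor _ 0).obj P' ⟶ X) :
    toH0 P X ((DerivedCategory.singleFunctor _ 0).map g ≫ φ) = g ≫ toH0 P' X φ := by
  have e : g ≫ (DerivedCategory.singleFunctorCompHomologyFunctorIso (ModuleCat.{u} A) 0).inv.app P' =
      (DerivedCategory.singleFunctorCompHomologyFunctorIso (ModuleCat.{u} A) 0).inv.app P ≫
        (DerivedCategory.homologyFunctor (ModuleCat.{u} A) 0).map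
          ((DerivedCategory.singleFunctor _ 0).map g) :=
    (DerivedCategory.singleFunctorCompHomologyFunctorIso (ModuleCat.{u} A) 0).inv.naturality g
  rw [toH0, toH0, Functor.map_comp, ← Category.assoc g, e, Category.assoc]

theorem bijective_toH0 (P : ModuleCat.{u} A) [Projective P] (X : Dual.D A) :
    Function.Bijective (toH0 P X) := by
  obtain ⟨I, hI, ⟨eI⟩⟩ := exists_kInjective X
  haveI := hI
  let σ := DerivedCategory.singleFunctorCompHomologyFunctorIso (ModuleCat.{u} A) 0
  let H := DerivedCategory.homologyFunctor (ModuleCat.{u} A) 0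
  let S := sgl P
  let e : (DerivedCategory.singleFunctor _ 0).obj P ≅ DRing.toD S :=
    (DerivedCategory.singleFunctorIsoCompQ (ModuleCat.{u} A) 0).app P
  refine ⟨fun φ φ' h => ?_, fun ψ => ?_⟩
  · have h' : H.map (φ - φ') = 0 := by
      rw [Functor.map_sub, sub_eq_zero]
      exact (cancel_epi (σ.inv.app P)).1 h
    obtain ⟨a, ha⟩ := exists_Q_map (e.inv ≫ (φ - φ') ≫ eI.inv)
    have h0 : homologyMap a 0 = 0 := by
      rw [← cancel_epi (hQIso S 0).hom, ← hQIso_natural, ha]
      show H.map _ ≫ _ = _
      rw [Functor.map_comp, Functor.map_comp, h', zero_comp, comp_zero, zero_comp, comp_zero]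
    obtain ⟨T⟩ := homotopic_of_homologyMap_eq_zero a h0
    rw [Q_map_eq_zero_of_homotopy T] at ha
    rw [← sub_eq_zero, ← cancel_epi e.inv, ← cancel_mono eI.inv, Category.assoc, ← ha, comp_zero, zero_comp]
  · obtain ⟨a, ha⟩ := exists_homologyMap_eq (P := P) (K := I)
      ((hQIso S 0).inv ≫ H.map e.inv ≫ σ.hom.app P ≫ ψ ≫ H.map eI.inv ≫ (hQIso I 0).hom)
    refine ⟨e.hom ≫ DerivedCategory.Q.map a ≫ eI.hom, ?_⟩
    have := hQIso_natural a 0
    rw [ha, ← Category.assoc (hQIso S 0).hom, Iso.hom_inv_id, Category.id_comp] at this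
    simp only [← Category.assoc, cancel_mono] at this
    show σ.inv.app P ≫ H.map _ = ψ
    rw [Functor.map_comp, Functor.map_comp, this]
    simp only [Category.assoc]
    rw [← H.map_comp_assoc e.hom, e.hom_inv_id, H.map_id, Category.id_comp, Iso.inv_hom_id_app_assoc,
      ← H.map_comp, eI.inv_hom_id, H.map_id, Category.comp_id]

section Telescope

variable (f : A)

/-- `e k ↦ e k - f • e (k + 1)`, as a linear map. -/
def telL : (ℕ →₀ A) →ₗ[A] (ℕ →₀ A) :=
  Finsupp.linearCombination A fun k => Finsupp.single k 1 - f • Finsupp.single (k + 1) 1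

/-- `e k ↦ 1 / f ^ k`, as a linear map. -/
def projL : (ℕ →₀ A) →ₗ[A] Localization.Away f :=
  Finsupp.linearCombination A fun k =>
    IsLocalization.mk' (Localization.Away f) (1 : A) (⟨f ^ k, k, rfl⟩ : Submonoid.powers f)

/-- `telL` in the category of modules. -/
def telMap : ModuleCat.of A (ℕ →₀ A) ⟶ ModuleCat.of A (ℕ →₀ A) := ModuleCat.ofHom (telL f)

/-- `projL` in the category of modules. -/
def telProj : ModuleCat.of A (ℕ →₀ A) ⟶ ModuleCat.of A (Localization.Away f) := ModuleCat.ofHom (projL f)

theorem telL_single (k : ℕ) (a : A) :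
    telL f (Finsupp.single k a) = Finsupp.single k a - Finsupp.single (k + 1) (f * a) := by
  simp [telL, Finsupp.linearCombination_single, smul_sub, Finsupp.smul_single, mul_comm]

theorem telL_apply_zero (x : ℕ →₀ A) : telL f x 0 = x 0 := by
  induction x using Finsupp.induction_linear with
  | zero => simp
  | add a b ha hb => simp [map_add, ha, hb]
  | single k a => simp [telL_single, Finsupp.single_apply]

theorem telL_apply_succ (x : ℕ →₀ A) (n : ℕ) : telL f x (n + 1) = x (n + 1) - f * x n := by
  induction x using Finsupp.induction_linear with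
  | zero => simp
  | add a b ha hb => simp [map_add, ha, hb]; ring
  | single k a => by_cases h1 : k = n <;> simp [telL_single, Finsupp.single_apply, h1]

theorem telL_injective : Function.Injective (telL f) := by
  refine (injective_iff_map_eq_zero (telL f)).2 fun x hx => Finsupp.ext fun n => ?_
  induction n with
  | zero => rw [← telL_apply_zero f x, hx]
  | succ n ih => simpa [telL_apply_succ, ih] using congrArg (fun y : ℕ →₀ A => y (n + 1)) hx

theorem projL_single (k : ℕ) (a : A) :
    projL f (Finsupp.single k a) =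
      IsLocalization.mk' (Localization.Away f) a (⟨f ^ k, k, rfl⟩ : Submonoid.powers f) := by
  simp [projL, Finsupp.linearCombination_single, Algebra.smul_def, IsLocalization.mul_mk'_eq_mk'_of_mul]

theorem projL_surjective : Function.Surjective (projL f) := fun x => by
  obtain ⟨a, ⟨_, k, rfl⟩, rfl⟩ := IsLocalization.exists_mk'_eq (Submonoid.powers f) x
  exact ⟨Finsupp.single k a, projL_single f k a⟩

theorem projL_telL (x : ℕ →₀ A) : projL f (telL f x) = 0 := by
  induction x using Finsupp.induction_linear with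
  | zero => simp
  | add a b ha hb => simp [map_add, ha, hb]
  | single k a =>
    rw [telL_single, map_sub, projL_single, projL_single, sub_eq_zero]
    exact IsLocalization.mk'_eq_of_eq (by simp [pow_succ']; ring)

theorem telMap_telProj : telMap f ≫ telProj f = 0 :=
  ModuleCat.hom_ext (LinearMap.ext (projL_telL f))

/-- The presentation of the localization. -/
def telSC : ShortComplex (ModuleCat.{u} A) := ShortComplex.mk _ _ (telMap_telProj f)

theorem telSC_shortExact : (telSC f).ShortExact := by
  haveI : Mono (telSC f).f := (ModuleCat.mono_iff_injective _).2 (telL_injective f)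
  haveI : Epi (telSC f).g := (ModuleCat.epi_iff_surjective _).2 (projL_surjective f)
  refine ⟨(ShortComplex.moduleCat_exact_iff _).2 fun x hx => ?_⟩
  change ℕ →₀ A at x
  change projL f x = 0 at hx
  show x ∈ LinearMap.range (telL f)
  let R := LinearMap.range (telL f)
  have hshift : ∀ (k m : ℕ) (a : A), Finsupp.single k a - Finsupp.single (k + m) (f ^ m * a) ∈ R := by
    intro k m
    induction m with
    | zero => intro a; simp
    | succ m ih =>
      intro a
      rw [show Finsupp.single k a - Finsupp.single (k + (m + 1)) (f ^ (m + 1) * a) =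
          (Finsupp.single k a - Finsupp.single (k + m) (f ^ m * a)) +
            telL f (Finsupp.single (k + m) (f ^ m * a)) by
        rw [telL_single, pow_succ']; simp [Nat.add_assoc, mul_assoc]]
      exact add_mem (ih a) (LinearMap.mem_range_self _ _)
  have hnorm : ∀ y : ℕ →₀ A, ∃ n a, y - Finsupp.single n a ∈ R := fun y => by
    induction y using Finsupp.induction_linear with
    | zero => exact ⟨0, 0, by simp⟩
    | add y z hy hz =>
      obtain ⟨n, a, ha⟩ := hy
      obtain ⟨m, b, hb⟩ := hz
      refine ⟨n + m, f ^ m * a + f ^ n * b, ?_⟩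
      have := add_mem (add_mem ha hb) (add_mem (hshift n m a) (Nat.add_comm m n ▸ hshift m n b))
      convert this using 1
      rw [Finsupp.single_add]
      abel
    | single k a => exact ⟨k, a, by simp⟩
  obtain ⟨n, a, ha⟩ := hnorm x
  obtain ⟨y, hy⟩ := id ha
  have h0 : projL f (Finsupp.single n a) = 0 := by
    have h1 := projL_telL f y
    rw [hy, map_sub, hx, zero_sub, neg_eq_zero] at h1
    exact h1
  rw [projL_single, IsLocalization.mk'_eq_zero_iff] at h0
  obtain ⟨⟨_, m, rfl⟩, hm⟩ := h0
  have hmem : Finsupp.single n a ∈ R := by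
    have := hshift n m a
    rwa [show f ^ m * a = 0 from hm, Finsupp.single_zero, sub_zero] at this
  have := add_mem ha hmem
  rwa [sub_add_cancel] at this

end Telescope

/-- The `A`-module structure on `H^n` transported through a shift. -/
def hShiftEquiv (K : Dual.D A) (n : ℤ) : Dual.HD A (K⟦n⟧) 0 ≃ₗ[A] Dual.HD A K n :=
  (((DerivedCategory.homologyFunctor (ModuleCat.{u} A) 0).shiftIso n 0 n (add_zero n)).app K).toLinearEquiv

theorem isIso_smul_localization (f : A) :
    IsIso (f • 𝟙 (Dual.inD A (Localization.Away f))) := by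
  have e : f • 𝟙 (Dual.inD A (Localization.Away f)) =
      (DerivedCategory.singleFunctor _ 0).map (f • 𝟙 (ModuleCat.of A (Localization.Away f))) := by
    rw [Functor.map_smul, CategoryTheory.Functor.map_id]
  rw [e]
  haveI : IsIso (f • 𝟙 (ModuleCat.of A (Localization.Away f))) :=
    (ConcreteCategory.isIso_iff_bijective _).2 (by
      show Function.Bijective fun x : Localization.Away f => f • x
      simp only [Algebra.smul_def]
      exact IsUnit.isUnit_iff_mulLeft_bijective.1
        (IsLocalization.map_units (Localization.Away f) (⟨f, Submonoid.mem_powers f⟩ : Submonoid.powers f)))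
  infer_instance

theorem bijective_comp_telMap {f : A} {E : Dual.D A}
    (h : ∀ n : ℤ, Subsingleton (Dual.inD A (Localization.Away f) ⟶ E⟦n⟧)) (n : ℤ) :
    Function.Bijective (fun φ : Dual.inD A (ℕ →₀ A) ⟶ E⟦n⟧ =>
      (DerivedCategory.singleFunctor _ 0).map (telMap f) ≫ φ) := by
  let T := (telSC_shortExact f).singleTriangle
  have hT : T ∈ distTriang _ := (telSC_shortExact f).singleTriangle_distinguished
  refine ⟨fun φ φ' hφ => sub_eq_zero.1 ?_, fun ψ => ?_⟩
  · obtain ⟨g, hg⟩ := T.yoneda_exact₂ hT (φ - φ') (by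
      show (DerivedCategory.singleFunctor _ 0).map (telMap f) ≫ (φ - φ') = 0
      rw [Preadditive.comp_sub]
      exact sub_eq_zero.2 hφ)
    haveI : Subsingleton (T.obj₃ ⟶ E⟦n⟧) := h n
    rw [hg, Subsingleton.elim g 0, comp_zero]
  · have h0 : T.invRotate.mor₁ ≫ ψ = 0 := by
      haveI : Subsingleton (T.obj₃ ⟶ E⟦n + 1⟧) := h (n + 1)
      let g : T.obj₃ ⟶ E⟦n + 1⟧ := (shiftNegShift T.obj₃ (1 : ℤ)).inv ≫
        (shiftFunctor (Dual.D A) (1 : ℤ)).map (T.invRotate.mor₁ ≫ ψ) ≫
          (shiftFunctorAdd' (Dual.D A) n 1 (n + 1) rfl).inv.app E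
      have hg : g = 0 := Subsingleton.elim _ _
      simp only [g, Preadditive.IsIso.comp_left_eq_zero, Preadditive.IsIso.comp_right_eq_zero,
        Functor.map_eq_zero_iff] at hg
      exact hg
    obtain ⟨g, hg⟩ := T.invRotate.yoneda_exact₂ (inv_rot_of_distTriang _ hT) ψ h0
    exact ⟨g, hg.symm⟩

/-- No maps from the localization at `f` means completeness of the cohomology. -/
theorem subsingleton_hom_iff_dc (f : A) (K : Dual.D A) :
    (∀ n : ℤ, Subsingleton (Dual.inD A (Localization.Away f) ⟶ K⟦n⟧)) ↔ ∀ n, DC f (Dual.HD A K n) := by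
  refine ⟨fun h n => ?_, fun h n => ?_⟩
  · let F := ModuleCat.of A (ℕ →₀ A)
    let ev : (F ⟶ (DerivedCategory.homologyFunctor (ModuleCat.{u} A) 0).obj (K⟦n⟧)) →
        (ℕ → Dual.HD A (K⟦n⟧) 0) := fun φ k => φ.hom (Finsupp.single k 1)
    have hev : Function.Bijective ev := ⟨fun φ φ' e => ModuleCat.hom_ext
        (Finsupp.lhom_ext' fun k => LinearMap.ext_ring (congrFun e k)),
      fun v => ⟨ModuleCat.ofHom (Finsupp.linearCombination A v), funext fun k =>
        (Finsupp.linearCombination_single A (v := v) 1 k).trans (one_smul _ _)⟩⟩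
    haveI : Projective F := ModuleCat.projective_of_free Finsupp.basisSingleOne
    have hb : DC f (Dual.HD A (K⟦n⟧) 0) := by
      have hΦ := hev.comp (bijective_toH0 F (K⟦n⟧))
      have heq : (tMap f (Dual.HD A (K⟦n⟧) 0)) ∘ (ev ∘ toH0 F (K⟦n⟧)) =
          (ev ∘ toH0 F (K⟦n⟧)) ∘ fun φ : Dual.inD A (ℕ →₀ A) ⟶ K⟦n⟧ =>
            (DerivedCategory.singleFunctor _ 0).map (telMap f) ≫ φ := by
        funext φ k
        simp only [Function.comp_apply, ev]
        rw [toH0_comp]
        show _ - f • _ = (toH0 F (K⟦n⟧) φ).hom (telL f (Finsupp.single k 1))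
        rw [telL_single, map_sub, mul_one, ← map_smul, Finsupp.smul_single, smul_eq_mul, mul_one]
      refine (Function.Bijective.of_comp_iff _ hΦ).1 ?_
      rw [heq]
      exact hΦ.comp (bijective_comp_telMap h n)
    exact hb.of_equiv (hShiftEquiv K n)
  · haveI := isIso_smul_localization f
    refine subsingleton_of_forall_eq 0 fun φ => eq_zero_of_isIso_smul (f := f) (fun m => ?_) φ
    exact (h (n + m)).of_equiv
      ((hShiftEquiv (K⟦n⟧) m).symm ≪≫ₗ
        ((DerivedCategory.homologyFunctor (ModuleCat.{u} A) 0).mapIso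
          ((shiftFunctorAdd' (Dual.D A) n m (n + m) rfl).symm.app K)).toLinearEquiv ≪≫ₗ
        hShiftEquiv K (n + m)).symm

/-- Derived completeness is completeness of the cohomology. -/
theorem isDerivedComplete_iff (I : Ideal A) (K : Dual.D A) :
    DRing.IsDerivedComplete I K ↔ ∀ f ∈ I, ∀ n, DC f (Dual.HD A K n) :=
  forall₂_congr fun f _ => subsingleton_hom_iff_dc f K

theorem isDerivedComplete_inD_iff (I : Ideal A) (M : Type u) [AddCommGroup M] [Module A M] :
    DRing.IsDerivedComplete I (Dual.inD A M) ↔ ∀ f ∈ I, DC f M := by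
  rw [isDerivedComplete_iff]
  refine forall₂_congr fun f _ => ?_
  let e := ((DerivedCategory.singleFunctorCompHomologyFunctorIso (ModuleCat.{u} A) 0).app
    (ModuleCat.of A M)).toLinearEquiv
  refine ⟨fun h => (h 0).of_equiv e, fun h n => ?_⟩
  rcases eq_or_ne n 0 with rfl | hn
  · exact h.of_equiv e.symm
  · haveI : Subsingleton (Dual.HD A (Dual.inD A M) n) :=
      ModuleCat.subsingleton_of_isZero
        ((HomologicalComplex.isZero_single_obj_homology (ComplexShape.up ℤ) 0 (ModuleCat.of A M) n hn).of_iso
          ((DerivedCategory.homologyFunctorFactors (ModuleCat.{u} A) n).app _))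
    exact dc_of_subsingleton

end Groth.Agent.DComplLib
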