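import Groth.Agent.DComplLib.Free
import Groth.Agent.DRingLib.RestrictPC

/-!
# First consequences of the cohomological criterion
-/

set_option autoImplicit false
set_option linter.style.haveILetI false
set_option backward.isDefEq.respectTransparency false

universe u

open CategoryTheory Limits
attribute [local instance] HasDerivedCategory.standard

noncomputable section

namespace Groth.Agent.DComplLib

variable {A : Type u} [CommRing A] {I : Ideal A}

/-- The elements with respect to which all cohomology modules are complete. -/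
def dcIdealD (K : Dual.D A) : Ideal A := ⨅ n : ℤ, dcIdeal (Dual.HD A K n)

theorem mem_dcIdealD {K : Dual.D A} {f : A} : f ∈ dcIdealD K ↔ ∀ n, DC f (Dual.HD A K n) := by
  simp [dcIdealD, Submodule.mem_iInf, mem_dcIdeal]

theorem isDerivedComplete_iff_le (K : Dual.D A) : DRing.IsDerivedComplete I K ↔ I ≤ dcIdealD K :=
  (isDerivedComplete_iff I K).trans (forall₂_congr fun _ _ => mem_dcIdealD.symm)

theorem subsingleton_hom_iff (K : Dual.D A) (f : A) :
    (∀ n : ℤ, Subsingleton (Dual.inD A (Localization.Away f) ⟶ K⟦n⟧)) ↔ f ∈ dcIdealD K :=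
  (subsingleton_hom_iff_dc f K).trans mem_dcIdealD.symm

theorem dcIdealD_isRadical (K : Dual.D A) : (dcIdealD K).IsRadical := fun f hf => by
  rw [mem_dcIdealD]
  intro n
  exact dcIdeal_isRadical (Ideal.radical_mono (iInf_le _ n) hf)

theorem dc_HD_restrict {B : Type u} [CommRing B] (φ : A →+* B) (L : Dual.D B) (f : A) (n : ℤ) :
    DC f (Dual.HD A ((DRing.restrictD φ).obj L) n) ↔ DC (φ f) (Dual.HD B L n) := by
  let e := (Groth.Agent.DRingLib.hdRestrictIso φ L n).toLinearEquiv
  have h : DC f (Dual.HD A ((DRing.restrictD φ).obj L) n) ↔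
      DC f ((ModuleCat.restrictScalars.{u} φ).obj (ModuleCat.of B (Dual.HD B L n))) :=
    ⟨fun h => h.of_equiv e, fun h => h.of_equiv e.symm⟩
  refine h.trans ?_
  letI : Module A (Dual.HD B L n) := Module.compHom _ φ
  exact dc_iff_of_smul_eq (M := Dual.HD B L n) (f := φ f) (g := f) fun _ => rfl

/-- A complex of modules complete with respect to `f` has complete cohomology. -/
theorem dc_homology {f : A} (E : DRing.Cx A) (h : ∀ i, DC f (E.X i)) (n : ℤ) : DC f (E.homology n) := by
  let j := (ComplexShape.up ℤ).prev n
  let u : E.X j →ₗ[A] Groth.Agent.LocCohLib.Zmod E n :=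
    LinearMap.codRestrict _ (E.d j n).hom fun x =>
      congr($(E.d_comp_d j n ((ComplexShape.up ℤ).next n)).hom x)
  have hker : LinearMap.ker (Groth.Agent.LocCohLib.cls E n) = LinearMap.range u := by
    ext z
    rw [LinearMap.mem_ker, Groth.Agent.LocCohLib.cls_eq_zero_iff, LinearMap.mem_range]
    exact ⟨fun ⟨w, hw⟩ => ⟨w, Subtype.ext hw⟩, fun ⟨w, hw⟩ => ⟨w, congrArg Subtype.val hw⟩⟩
  exact (dc_coker (h j) (dc_ker (h n) (h _) (E.d n ((ComplexShape.up ℤ).next n)).hom) u).of_equiv
    ((Submodule.quotEquivOfEq _ _ hker.symm).trans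
      (LinearMap.quotKerEquivOfSurjective _ (Groth.Agent.LocCohLib.cls_surjective E n)))

end Groth.Agent.DComplLib

namespace Groth.Agent.DComplLib

variable {A : Type u} [CommRing A]

theorem subsingleton_hom_restrict (f : A) (K : Dual.D A) (h : ∀ n, DC f (Dual.HD A K n))
    (E : Dual.D (Localization.Away f)) :
    Subsingleton ((DRing.restrictD (algebraMap A (Localization.Away f))).obj E ⟶ K) := by
  let X := (DRing.restrictD (algebraMap A (Localization.Away f))).obj E
  haveI : IsIso (f • 𝟙 X) := by
    rw [DerivedCategory.isIso_iff]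
    intro m
    let e := Groth.Agent.DRingLib.hdRestrictIso (algebraMap A (Localization.Away f)) E m
    obtain ⟨K', ⟨eK⟩⟩ : ∃ K' : DRing.Cx A, Nonempty (DRing.toD K' ≅ X) :=
      ⟨_, ⟨DerivedCategory.Q.objObjPreimageIso X⟩⟩
    rw [ConcreteCategory.isIso_iff_bijective]
    have hlin : ∀ x, ((DerivedCategory.homologyFunctor (ModuleCat.{u} A) m).map (f • 𝟙 X)).hom x = f • x := fun x => by
      have h1 : f • 𝟙 X = eK.inv ≫ DerivedCategory.Q.map (f • 𝟙 K') ≫ eK.hom := by
        rw [Functor.map_smul, Linear.smul_comp, Linear.comp_smul, CategoryTheory.Functor.map_id, Category.id_comp,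
          Iso.inv_hom_id]
      have h2 : HomologicalComplex.homologyMap (f • 𝟙 K') m = f • 𝟙 (K'.homology m) := by
        ext c
        obtain ⟨z, rfl⟩ := Groth.Agent.LocCohLib.cls_surjective K' m c
        refine (Groth.Agent.LocCohLib.homologyMap_cls (K := K') m (f • 𝟙 K') z).trans ?_
        show Groth.Agent.LocCohLib.cls K' m _ = f • Groth.Agent.LocCohLib.cls K' m z
        rw [← map_smul]
        exact congrArg _ (Subtype.ext rfl)
      have h3 : (DerivedCategory.homologyFunctor (ModuleCat.{u} A) m).map (DerivedCategory.Q.map (f • 𝟙 K')) =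
          f • 𝟙 _ := by
        rw [← cancel_mono (hQIso K' m).hom, hQIso_natural, h2, Linear.comp_smul, Category.comp_id,
          Linear.smul_comp]
        exact congrArg (f • ·) (Category.id_comp _).symm
      rw [h1, Functor.map_comp, Functor.map_comp, h3, Linear.smul_comp, Category.id_comp, Linear.comp_smul,
        ← Functor.map_comp, Iso.inv_hom_id, CategoryTheory.Functor.map_id]
      rfl
    let M := (DerivedCategory.homologyFunctor (ModuleCat.{u} (Localization.Away f)) m).obj E
    have hu : Function.Bijective fun y : M => algebraMap A (Localization.Away f) f • y := by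
      have hunit := IsLocalization.map_units (Localization.Away f) (⟨f, Submonoid.mem_powers f⟩ : Submonoid.powers f)
      refine ⟨fun y y' hy => ?_, fun y => ⟨((hunit.unit⁻¹ : (Localization.Away f)ˣ) : Localization.Away f) • y, ?_⟩⟩
      · exact hunit.smul_left_cancel.1 hy
      · show algebraMap A (Localization.Away f) f • (_ • y) = y
        rw [smul_smul, IsUnit.mul_val_inv, one_smul]
    have heq : ⇑(ConcreteCategory.hom ((DerivedCategory.homologyFunctor (ModuleCat.{u} A) m).map (f • 𝟙 X))) =
        e.toLinearEquiv.symm ∘ (fun y : M => algebraMap A (Localization.Away f) f • y) ∘ e.toLinearEquiv := by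
      funext x
      refine (hlin x).trans ?_
      show f • x = e.toLinearEquiv.symm (f • e.toLinearEquiv x)
      rw [map_smul, LinearEquiv.symm_apply_apply]
    rw [heq]
    exact (LinearEquiv.bijective _).comp (hu.comp (LinearEquiv.bijective _))
  exact subsingleton_of_forall_eq 0 fun φ => eq_zero_of_isIso_smul (f := f) h φ

end Groth.Agent.DComplLib
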