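import Groth.Agent.DComplLib.ModThms

/-!
# Power series act on derived complete modules
-/

set_option autoImplicit false

universe u

open Function PowerSeries

noncomputable section

namespace Groth.Agent.DComplLib

variable {A : Type u} [CommRing A] {M : Type u} [AddCommGroup M] [Module A M]

section Coeff

variable {R : Type u} [CommRing R]

theorem dc_powerSeries_C {t : R} (h : DC t R) : DC (PowerSeries.C t) R⟦X⟧ := by
  refine dc_of (fun y => ⟨fun k => mk fun j => h.sol (fun i => coeff j (y i)) k, fun k => ?_⟩) fun x hx => ?_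
  · ext j
    simp only [coeff_mk, smul_eq_mul, map_add, coeff_C_mul]
    exact h.sol_spec _ k
  · ext j
    exact h.eq_zero (x := fun k => coeff j (x k)) (fun k => by rw [hx k, smul_eq_mul, coeff_C_mul, smul_eq_mul]) 0

theorem dc_powerSeries_X : DC (X : R⟦X⟧) R⟦X⟧ := by
  refine dc_of (fun y => ⟨fun k => mk fun j => ∑ i ∈ Finset.range (j + 1), coeff (j - i) (y (k + i)), fun k => ?_⟩)
    fun x hx => ?_
  · ext j
    cases j with
    | zero => simp
    | succ j =>
      simp only [coeff_mk, smul_eq_mul, map_add, coeff_succ_X_mul]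
      rw [Finset.sum_range_succ']
      simp [Nat.add_assoc, Nat.add_comm 1, add_comm]
      exact Finset.sum_congr rfl fun i _ => by rw [show k + (i + 1) = i + (k + 1) by omega]
  · have h : ∀ j k, coeff j (x k) = 0 := fun j => by
      induction j with
      | zero => intro k; rw [hx k, smul_eq_mul, coeff_zero_X_mul]
      | succ j ih => intro k; rw [hx k, smul_eq_mul, coeff_succ_X_mul, ih]
    ext j
    simpa using h j 0

variable {f : A} (hf : DC f M) (ρ : R →+* Module.End A M)

/-- The action of a power series. -/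
def psEnd (q : R⟦X⟧) : Module.End A M where
  toFun m := hf.sum fun k => ρ (coeff k q) m
  map_add' m m' := by
    rw [← map_add hf.sum]
    congr 1
    funext k
    exact map_add _ _ _
  map_smul' a m := by
    rw [RingHom.id_apply, ← map_smul hf.sum]
    congr 1
    funext k
    exact map_smul _ _ _

theorem psEnd_apply (q : R⟦X⟧) (m : M) : psEnd hf ρ q m = hf.sum fun k => ρ (coeff k q) m := rfl

theorem psEnd_add (q q' : R⟦X⟧) : psEnd hf ρ (q + q') = psEnd hf ρ q + psEnd hf ρ q' := by
  refine LinearMap.ext fun m => ?_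
  rw [LinearMap.add_apply, psEnd_apply, psEnd_apply, psEnd_apply, ← map_add]
  congr 1
  funext k
  simp

theorem psEnd_C (r : R) : psEnd hf ρ (PowerSeries.C r) = ρ r := by
  refine LinearMap.ext fun m => ?_
  have e : hf.sol (fun k => ρ (coeff k (PowerSeries.C r)) m) = fun k => if k = 0 then ρ r m else 0 := by
    refine hf.sol_eq fun k => ?_
    cases k with
    | zero => simp
    | succ k => simp [coeff_C]
  exact (congrFun e 0).trans (if_pos rfl)

theorem psEnd_X_mul (q : R⟦X⟧) (m : M) : psEnd hf ρ (X * q) m = f • psEnd hf ρ q m := by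
  rw [psEnd_apply, hf.sum_step, coeff_zero_X_mul, map_zero, LinearMap.zero_apply, zero_add]
  simp only [coeff_succ_X_mul]
  rfl

theorem end_ext {φ ψ : R⟦X⟧ →+ M} (hC : ∀ r, φ (PowerSeries.C r) = ψ (PowerSeries.C r))
    (hφ : ∀ q, φ (X * q) = f • φ q) (hψ : ∀ q, ψ (X * q) = f • ψ q) (hf : DC f M) : φ = ψ := by
  refine AddMonoidHom.ext fun q => sub_eq_zero.1 ?_
  let z : ℕ → M := fun k => φ (mk fun j => coeff (k + j) q) - ψ (mk fun j => coeff (k + j) q)
  have hz : ∀ k, z k = f • z (k + 1) := fun k => by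
    have e : (mk fun j => coeff (k + j) q) =
        X * (mk fun j => coeff (k + 1 + j) q) + PowerSeries.C (coeff k q) := by
      conv_lhs => rw [eq_X_mul_shift_add_const (mk fun j => coeff (k + j) q)]
      simp [Nat.add_comm, Nat.add_left_comm, ← coeff_zero_eq_constantCoeff_apply]
    show φ _ - ψ _ = f • (φ _ - ψ _)
    rw [e, map_add, map_add, hφ, hψ, hC, smul_sub]
    abel
  have h0 := hf.eq_zero hz 0
  have hq : (mk fun j => coeff (0 + j) q) = q := by ext j; simp
  simpa only [z, hq] using h0

/-- The action of power series as a ring map. -/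
def psHom : R⟦X⟧ →+* Module.End A M where
  toFun := psEnd hf ρ
  map_one' := by rw [← map_one (PowerSeries.C (R := R)), psEnd_C, map_one]
  map_zero' := by rw [← map_zero (PowerSeries.C (R := R)), psEnd_C, map_zero]
  map_add' := psEnd_add hf ρ
  map_mul' q q' := by
    have hC : ∀ (r : R) (q' : R⟦X⟧) (m : M), psEnd hf ρ (PowerSeries.C r * q') m = ρ r (psEnd hf ρ q' m) :=
      fun r q' m => by
        rw [psEnd_apply, psEnd_apply, DC.map_sum hf hf (ρ r)]
        congr 1
        funext k
        rw [coeff_C_mul, map_mul]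
        rfl
    refine LinearMap.ext fun m => ?_
    show psEnd hf ρ (q * q') m = psEnd hf ρ q (psEnd hf ρ q' m)
    let φ : R⟦X⟧ →+ M := AddMonoidHom.mk' (fun p => psEnd hf ρ (p * q') m) fun a b => by
      rw [add_mul, psEnd_add, LinearMap.add_apply]
    let ψ : R⟦X⟧ →+ M := AddMonoidHom.mk' (fun p => psEnd hf ρ p (psEnd hf ρ q' m)) fun a b => by
      rw [psEnd_add, LinearMap.add_apply]
    exact DFunLike.congr_fun (end_ext (φ := φ) (ψ := ψ)
      (fun r => (hC r q' m).trans (by show _ = psEnd hf ρ (PowerSeries.C r) _; rw [psEnd_C]))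
      (fun p => by show psEnd hf ρ (X * p * q') m = _; rw [mul_assoc, psEnd_X_mul]; rfl)
      (fun p => psEnd_X_mul hf ρ p _) hf) q

end Coeff

theorem exists_action [IsNoetherianRing A] : ∀ s : List A, (∀ g ∈ s, DC g M) →
    ∃ (R : CommRingCat.{u}) (φ : A →+* R) (ρ : R →+* Module.End A M) (t : A → R), IsNoetherianRing R ∧
      (∀ a m, ρ (φ a) m = a • m) ∧ (∀ g ∈ s, ∀ m, ρ (t g) m = g • m) ∧ ∀ g ∈ s, DC (t g) R
  | [], _ => ⟨CommRingCat.of A, RingHom.id A, Module.toModuleEnd A M, id, ‹_›, fun _ _ => rfl,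
      fun g hg => by simp at hg, fun g hg => by simp at hg⟩
  | f :: l, h => by
    classical
    obtain ⟨R, φ, ρ, t, hR, h1, h2, h3⟩ := exists_action l fun g hg => h g (List.mem_cons_of_mem f hg)
    haveI := hR
    have hf := h f List.mem_cons_self
    refine ⟨CommRingCat.of (R : Type u)⟦X⟧, PowerSeries.C.comp φ, psHom hf ρ,
      fun g => if g = f then X else PowerSeries.C (t g), inferInstanceAs (IsNoetherianRing (R : Type u)⟦X⟧),
      fun a m => ?_, fun g hg m => ?_, fun g hg => ?_⟩
    · show psEnd hf ρ (PowerSeries.C (φ a)) m = a • m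
      rw [psEnd_C, h1]
    · show psEnd hf ρ (if g = f then X else PowerSeries.C (t g)) m = g • m
      split_ifs with hgf
      · subst hgf
        have := psEnd_X_mul hf ρ 1 m
        rw [mul_one] at this
        rw [this, ← map_one (PowerSeries.C (R := (R : Type u))), psEnd_C, map_one]
        rfl
      · rw [psEnd_C, h2 g ((List.mem_cons.1 hg).resolve_left hgf)]
    · show DC (if g = f then (X : (R : Type u)⟦X⟧) else PowerSeries.C (t g)) (R : Type u)⟦X⟧
      split_ifs with hgf
      · exact dc_powerSeries_X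
      · exact dc_powerSeries_C (h3 g ((List.mem_cons.1 hg).resolve_left hgf))

/-- Complete Nakayama. -/
theorem isAdicComplete_and_finite [IsNoetherianRing A] (I : Ideal A) (hM : ∀ f ∈ I, DC f M)
    (hfin : Module.Finite A (M ⧸ I • (⊤ : Submodule A M))) :
    IsAdicComplete I M ∧ Module.Finite (AdicCompletion I A) (AdicCompletion I M) := by
  obtain ⟨r, p, hp⟩ := Module.Finite.exists_fin' A (M ⧸ I • (⊤ : Submodule A M))
  choose x hx using fun j : Fin r => Submodule.mkQ_surjective (I • (⊤ : Submodule A M)) (p (Pi.single j 1))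
  let u : (Fin r → A) →ₗ[A] M := ∑ j, (LinearMap.proj j).smulRight (x j)
  have hu : Surjective (Submodule.mkQ (I • (⊤ : Submodule A M)) ∘ₗ u) := fun y => by
    obtain ⟨v, rfl⟩ := hp y
    refine ⟨v, ?_⟩
    conv_rhs => rw [pi_eq_sum_univ' v]
    simp only [u, LinearMap.comp_apply, LinearMap.coe_sum, Finset.sum_apply, map_sum, map_smul,
      LinearMap.smulRight_apply, LinearMap.proj_apply, hx]
  refine ⟨?_, Module.Finite.of_surjective ((AdicCompletion.map I u).comp
    (AdicCompletion.piEquivFin I r).symm.toLinearMap)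
    ((AdicCompletion.map_surjective_of_mkQ_comp_surjective hu).comp (AdicCompletion.piEquivFin I r).symm.surjective)⟩
  obtain ⟨s, hs⟩ := (inferInstance : IsNoetherian A A).noetherian I
  have hsI : ∀ g ∈ s, g ∈ I := fun g hg => hs ▸ Submodule.subset_span hg
  obtain ⟨R, φ, ρ, t, hR, h1, h2, h3⟩ := exists_action (M := M) s.toList fun g hg =>
    hM g (hsI g (Finset.mem_toList.1 hg))
  haveI := hR
  letI : Module R M := Module.compHom M ρ
  have hφ : ∀ a m, φ a • (m : M) = a • m := h1
  have hts : ∀ g ∈ s, ∀ m : M, t g • m = g • m := fun g hg => h2 g (Finset.mem_toList.2 hg)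
  let J : Ideal R := Ideal.ofList (s.toList.map t)
  have htJ : ∀ g ∈ s, t g ∈ J := fun g hg => Ideal.subset_span (List.mem_map_of_mem (Finset.mem_toList.2 hg))
  have hJ : ∀ z ∈ s.toList.map t, DC z M := fun z hz => by
    obtain ⟨g, hg, rfl⟩ := List.mem_map.1 hz
    exact (dc_iff_of_smul_eq (f := g) (g := t g) (hts g (Finset.mem_toList.1 hg))).2
      (hM g (hsI g (Finset.mem_toList.1 hg)))
  have hJR : ∀ z ∈ s.toList.map t, DC z R := fun z hz => by
    obtain ⟨g, hg, rfl⟩ := List.mem_map.1 hz
    exact h3 g hg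
  have hIJ : ∀ (n : ℕ) (y : M), y ∈ I ^ n • (⊤ : Submodule A M) → y ∈ J ^ n • (⊤ : Submodule R M) := by
    intro n
    induction n with
    | zero => intro y _; rw [pow_zero, Submodule.one_smul]; trivial
    | succ n ih =>
      intro y hy
      rw [pow_succ', mul_smul] at hy
      refine Submodule.smul_induction_on hy (fun a ha z hz => ?_) fun _ _ => add_mem
      rw [← hs] at ha
      induction ha using Submodule.span_induction with
      | mem g hg =>
        rw [← hts g hg, pow_succ', mul_smul]
        exact Submodule.smul_mem_smul (htJ g hg) (ih z hz)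
      | zero => rw [zero_smul]; exact zero_mem _
      | add _ _ _ _ e1 e2 => rw [add_smul]; exact add_mem e1 e2
      | smul c _ _ e => rw [smul_eq_mul, mul_smul, ← hφ c]; exact Submodule.smul_mem _ _ e
  let Φ : (Fin r → R) →ₗ[R] M := ∑ j, (LinearMap.proj j).smulRight (x j)
  have hQ : Subsingleton (M ⧸ LinearMap.range Φ) := by
    refine subsingleton_of_smul_top (s.toList.map t) (fun z hz => dc_coker (dc_pi fun _ => hJR z hz) (hJ z hz) Φ) ?_
    refine Submodule.eq_top_iff'.2 fun y => ?_
    obtain ⟨m, rfl⟩ := Submodule.mkQ_surjective _ y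
    obtain ⟨v, hv⟩ := hu (Submodule.mkQ _ m)
    have hd : m - u v ∈ I ^ 1 • (⊤ : Submodule A M) := by
      rw [pow_one, ← Submodule.Quotient.eq]
      exact hv.symm
    have hin : u v ∈ LinearMap.range Φ := ⟨fun j => φ (v j), by
      simp [Φ, u, hφ]⟩
    have h' := Submodule.mem_map_of_mem (f := Submodule.mkQ (LinearMap.range Φ)) (hIJ 1 _ hd)
    rw [pow_one, Submodule.map_smul'', Submodule.map_top, Submodule.range_mkQ, map_sub,
      Submodule.mkQ_apply _ (u v), (Submodule.Quotient.mk_eq_zero _).2 hin, sub_zero] at h'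
    exact h'
  have hfinR : Module.Finite R M := Module.Finite.of_surjective Φ (LinearMap.range_eq_top.1
    (Submodule.Quotient.subsingleton_iff.1 hQ))
  have hjac : J ≤ Ideal.jacobson (⊥ : Ideal R) := by
    refine Ideal.span_le.2 fun z hz => Ideal.mem_jacobson_bot.2 fun y => ?_
    rw [add_comm]
    exact isUnit_one_add ((mul_comm y z) ▸ (hJR z hz).mul_left y)
  refine AdicCompletion.of_bijective_iff.1 ⟨AdicCompletion.of_injective_iff.2 ⟨fun m hm => ?_⟩,
    adicCompletion_of_surjective ⟨s, hs⟩ hM⟩
  have h0 : m ∈ ⨅ n : ℕ, J ^ n • (⊤ : Submodule R M) := (Submodule.mem_iInf _).2 fun n =>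
    hIJ n m (SModEq.zero.1 (hm n))
  rwa [Ideal.iInf_pow_smul_eq_bot_of_le_jacobson J hjac] at h0

end Groth.Agent.DComplLib
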