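import Groth.Agent.DComplLib.Basic

/-!
# Cohomology of complexes of sequences
-/

set_option autoImplicit false
set_option linter.style.haveILetI false
set_option backward.isDefEq.respectTransparency false

universe u

open CategoryTheory Limits
attribute [local instance] HasDerivedCategory.standard

noncomputable section

namespace Groth.Agent.DComplLib

open Groth.Agent.LocCohLib

variable {A : Type u} [CommRing A] (K : DRing.Cx A) (n : ℤ)

/-- The components of a class. -/
def seqHMap : (seqCx K).homology n →ₗ[A] (ℕ → K.homology n) :=
  LinearMap.pi fun k => (HomologicalComplex.homologyMap (seqProj K k) n).hom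

theorem bijective_seqHMap : Function.Bijective (seqHMap K n) := by
  refine ⟨(injective_iff_map_eq_zero (seqHMap K n)).2 fun c hc => ?_, fun v => ?_⟩
  · obtain ⟨z, rfl⟩ := cls_surjective (seqCx K) n c
    choose w hw using fun k => (cls_eq_zero_iff K n (mapZ n (seqProj K k) z)).1
      (((homologyMap_cls (K := seqCx K) n (seqProj K k) z).symm).trans (congrFun hc k))
    exact (cls_eq_zero_iff _ n z).2 ⟨w, funext hw⟩
  · choose d hd using fun k => cls_surjective K n (v k)
    let D : Zmod (seqCx K) n := ⟨fun k => (d k : K.X n), by
      rw [LinearMap.mem_ker]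
      funext k
      exact LinearMap.mem_ker.1 (d k).2⟩
    refine ⟨cls (seqCx K) n D, funext fun k => ?_⟩
    exact (homologyMap_cls (K := seqCx K) n (seqProj K k) D).trans
      ((congrArg (cls K n) (Subtype.ext rfl)).trans (hd k))

/-- Cohomology commutes with sequences. -/
def seqHEquiv : (seqCx K).homology n ≃ₗ[A] (ℕ → K.homology n) :=
  LinearEquiv.ofBijective (seqHMap K n) (bijective_seqHMap K n)

theorem seqHMap_seqT (f : A) (x : (seqCx K).homology n) :
    seqHMap K n ((HomologicalComplex.homologyMap (seqT f K) n).hom x) =
      tMap f (K.homology n) (seqHMap K n x) := by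
  obtain ⟨z, rfl⟩ := cls_surjective (seqCx K) n x
  funext k
  show (HomologicalComplex.homologyMap (seqProj K k) n).hom ((HomologicalComplex.homologyMap (seqT f K) n).hom
      (cls (seqCx K) n z)) =
    (HomologicalComplex.homologyMap (seqProj K k) n).hom (cls (seqCx K) n z) -
      f • (HomologicalComplex.homologyMap (seqProj K (k + 1)) n).hom (cls (seqCx K) n z)
  simp only [homologyMap_cls]
  rw [← map_smul, ← map_sub]
  exact congrArg (cls K n) (Subtype.ext rfl)

theorem dc_of_bijective {f : A}
    (h : Function.Bijective (HomologicalComplex.homologyMap (seqT f K) n).hom) : DC f (K.homology n) := by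
  have heq : tMap f (K.homology n) ∘ seqHMap K n =
      seqHMap K n ∘ (HomologicalComplex.homologyMap (seqT f K) n).hom :=
    funext fun x => (seqHMap_seqT K n f x).symm
  refine (Function.Bijective.of_comp_iff _ (bijective_seqHMap K n)).1 ?_
  rw [heq]
  exact (bijective_seqHMap K n).comp h

theorem dc_seqCx_homology {g : A} (h : DC g (K.homology n)) : DC g ((seqCx K).homology n) :=
  (dc_pi (M := fun _ : ℕ => K.homology n) fun _ => h).of_equiv (seqHEquiv K n).symm

theorem subsingleton_seqCx_homology (h : Subsingleton (K.homology n)) :
    Subsingleton ((seqCx K).homology n) :=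
  (seqHEquiv K n).injective.subsingleton

theorem dc_HD_iff (f : A) : DC f (Dual.HD A (DRing.toD K) n) ↔ DC f (K.homology n) :=
  ⟨fun h => h.of_equiv (hQIso K n).toLinearEquiv, fun h => h.of_equiv (hQIso K n).toLinearEquiv.symm⟩

end Groth.Agent.DComplLib
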