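import Groth.Agent.DComplLib.Basic
import Mathlib.Algebra.Homology.DerivedCategory.HomologySequence
import Mathlib.CategoryTheory.Triangulated.Functor

/-!
# Completeness and universality along triangles
-/

set_option autoImplicit false
set_option linter.style.haveILetI false
set_option backward.isDefEq.respectTransparency false

universe u

open CategoryTheory Limits Pretriangulated
attribute [local instance] HasDerivedCategory.standard

noncomputable section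

namespace Groth.Agent.DComplLib

variable {A : Type u} [CommRing A]

theorem dc_of_exact {f : A} {M₁ M₂ N M₃ M₄ : Type u} [AddCommGroup M₁] [Module A M₁] [AddCommGroup M₂]
    [Module A M₂] [AddCommGroup N] [Module A N] [AddCommGroup M₃] [Module A M₃] [AddCommGroup M₄] [Module A M₄]
    {a : M₁ →ₗ[A] M₂} {b : M₂ →ₗ[A] N} {c : N →ₗ[A] M₃} {d : M₃ →ₗ[A] M₄}
    (hab : Function.Exact a b) (hbc : Function.Exact b c) (hcd : Function.Exact c d)
    (h₁ : DC f M₁) (h₂ : DC f M₂) (h₃ : DC f M₃) (h₄ : DC f M₄) : DC f N := by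
  have hb : LinearMap.range a ≤ LinearMap.ker b := fun x hx => (hab x).2 hx
  refine DC.of_sub_quot ((LinearMap.range a).liftQ b hb) (c.codRestrict (LinearMap.ker d) fun x => (hcd _).2 ⟨x, rfl⟩)
    ?_ ?_ ?_ (dc_coker h₁ h₂ a) (dc_ker h₃ h₄ d)
  · rw [← LinearMap.ker_eq_bot, Submodule.ker_liftQ_eq_bot _ _ hb fun x hx => (hab x).1 hx]
  · rintro ⟨y, hy⟩
    obtain ⟨x, hx⟩ := (hcd y).1 hy
    exact ⟨x, Subtype.ext hx⟩
  · rw [Submodule.range_liftQ, LinearMap.ker_codRestrict]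
    exact LinearMap.exact_iff.1 hbc

/-- Completeness passes to the third object of a distinguished triangle. -/
theorem mem_dcIdealD_obj₃ {f : A} (T : Triangle (Dual.D A)) (hT : T ∈ distTriang _)
    (h₁ : f ∈ dcIdealD T.obj₁) (h₂ : f ∈ dcIdealD T.obj₂) : f ∈ dcIdealD T.obj₃ := by
  rw [mem_dcIdealD] at h₁ h₂ ⊢
  intro n
  exact dc_of_exact
    ((ShortComplex.ShortExact.moduleCat_exact_iff_function_exact _).1
      (DerivedCategory.HomologySequence.exact₂ T hT n))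
    ((ShortComplex.ShortExact.moduleCat_exact_iff_function_exact _).1
      (DerivedCategory.HomologySequence.exact₃ T hT n (n + 1)))
    ((ShortComplex.ShortExact.moduleCat_exact_iff_function_exact _).1
      (DerivedCategory.HomologySequence.exact₁ T hT n (n + 1)))
    (h₁ n) (h₂ n) (h₁ (n + 1)) (h₂ (n + 1))

theorem subsingleton_HD_obj₃ (T : Triangle (Dual.D A)) (hT : T ∈ distTriang _) (n : ℤ)
    (h₂ : Subsingleton (Dual.HD A T.obj₂ n)) (h₁ : Subsingleton (Dual.HD A T.obj₁ (n + 1))) :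
    Subsingleton (Dual.HD A T.obj₃ n) := by
  refine subsingleton_of_forall_eq 0 fun x => ?_
  have h := (ShortComplex.ShortExact.moduleCat_exact_iff_function_exact _).1
    (DerivedCategory.HomologySequence.exact₃ T hT n (n + 1))
  obtain ⟨y, rfl⟩ := (h x).1 (@Subsingleton.elim _ h₁ _ _)
  exact (congrArg _ (@Subsingleton.elim _ h₂ y 0)).trans (map_zero _)

theorem mem_dcIdealD_of_iso {f : A} {K L : Dual.D A} (e : K ≅ L) (h : f ∈ dcIdealD K) : f ∈ dcIdealD L :=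
  mem_dcIdealD.2 fun n => (mem_dcIdealD.1 h n).of_equiv
    ((DerivedCategory.homologyFunctor _ n).mapIso e).toLinearEquiv

theorem mem_dcIdealD_shift {f : A} {K : Dual.D A} (h : f ∈ dcIdealD K) (m : ℤ) : f ∈ dcIdealD (K⟦m⟧) :=
  mem_dcIdealD.2 fun n => (mem_dcIdealD.1 h (m + n)).of_equiv
    ((hShiftEquiv (K⟦m⟧) n).symm ≪≫ₗ
      ((DerivedCategory.homologyFunctor (ModuleCat.{u} A) 0).mapIso
        ((shiftFunctorAdd' (Dual.D A) m n (m + n) rfl).symm.app K)).toLinearEquiv ≪≫ₗ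
      hShiftEquiv K (m + n)).symm

/-- `η` is the universal map to objects complete with respect to `S`. -/
structure IsCompl (S : Set A) {X Y : Dual.D A} (η : X ⟶ Y) : Prop where
  mem : S ⊆ dcIdealD Y
  bij : ∀ E : Dual.D A, S ⊆ dcIdealD E → Function.Bijective fun φ : Y ⟶ E => η ≫ φ

theorem IsCompl.hom_ext {S : Set A} {X Y E : Dual.D A} {η : X ⟶ Y} (h : IsCompl S η) (hE : S ⊆ dcIdealD E)
    {φ φ' : Y ⟶ E} (he : η ≫ φ = η ≫ φ') : φ = φ' := (h.bij E hE).1 he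

/-- Two universal maps are uniquely isomorphic. -/
theorem IsCompl.exists_iso {S : Set A} {X Y Y' : Dual.D A} {η : X ⟶ Y} {η' : X ⟶ Y'} (h : IsCompl S η)
    (h' : IsCompl S η') : ∃ e : Y ≅ Y', η ≫ e.hom = η' := by
  obtain ⟨u, hu⟩ := (h.bij Y' h'.mem).2 η'
  obtain ⟨v, hv⟩ := (h'.bij Y h.mem).2 η
  refine ⟨⟨u, v, h.hom_ext h.mem ?_, h'.hom_ext h'.mem ?_⟩, hu⟩
  · rw [← Category.assoc, show η ≫ u = η' from hu, show η' ≫ v = η from hv, Category.comp_id]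
  · rw [← Category.assoc, show η' ≫ v = η from hv, show η ≫ u = η' from hu, Category.comp_id]

theorem bijective_precomp_shift {X Y : Dual.D A} (η : X ⟶ Y) (m : ℤ) {S : Set A}
    (hη : ∀ E : Dual.D A, S ⊆ dcIdealD E → Function.Bijective fun φ : Y ⟶ E => η ≫ φ)
    (E : Dual.D A) (hE : S ⊆ dcIdealD E) :
    Function.Bijective fun φ : Y⟦m⟧ ⟶ E => η⟦m⟧' ≫ φ := by
  let adj := (shiftEquiv (Dual.D A) m).toAdjunction
  have hE' : S ⊆ dcIdealD (E⟦-m⟧) := fun f hf => mem_dcIdealD_shift (hE hf) (-m)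
  have heq : (fun φ : Y⟦m⟧ ⟶ E => η⟦m⟧' ≫ φ) =
      (adj.homEquiv X E).symm ∘ (fun φ : Y ⟶ E⟦-m⟧ => η ≫ φ) ∘ adj.homEquiv Y E := by
    funext φ
    show η⟦m⟧' ≫ φ = (adj.homEquiv X E).symm (η ≫ adj.homEquiv Y E φ)
    rw [adj.homEquiv_naturality_left_symm, Equiv.symm_apply_apply]
    rfl
  rw [heq]
  exact (Equiv.bijective _).comp ((hη _ hE').comp (Equiv.bijective _))

/-- The five lemma for precomposition along a morphism of triangles. -/
theorem bijective_precomp₃ {S : Set A} {T T' : Triangle (Dual.D A)} (hT : T ∈ distTriang _)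
    (hT' : T' ∈ distTriang _) (m : T ⟶ T')
    (h₁ : ∀ E : Dual.D A, S ⊆ dcIdealD E → Function.Bijective fun φ : T'.obj₁ ⟶ E => m.hom₁ ≫ φ)
    (h₂ : ∀ E : Dual.D A, S ⊆ dcIdealD E → Function.Bijective fun φ : T'.obj₂ ⟶ E => m.hom₂ ≫ φ)
    (E : Dual.D A) (hE : S ⊆ dcIdealD E) : Function.Bijective fun φ : T'.obj₃ ⟶ E => m.hom₃ ≫ φ := by
  have h₁' := bijective_precomp_shift m.hom₁ 1 h₁ E hE
  have h₂' := bijective_precomp_shift m.hom₂ 1 h₂ E hE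
  refine ⟨fun φ φ' h => sub_eq_zero.1 ?_, fun ψ => ?_⟩
  · have h0 : m.hom₃ ≫ (φ - φ') = 0 := by rw [Preadditive.comp_sub]; exact sub_eq_zero.2 h
    have e2 : T'.mor₂ ≫ (φ - φ') = 0 := (h₂ E hE).1 (by
      show m.hom₂ ≫ T'.mor₂ ≫ (φ - φ') = m.hom₂ ≫ 0
      rw [← m.comm₂_assoc, h0, comp_zero, comp_zero])
    obtain ⟨g, hg⟩ := T'.yoneda_exact₃ hT' _ e2
    have e3 : T.mor₃ ≫ m.hom₁⟦1⟧' ≫ g = 0 := by rw [m.comm₃_assoc, ← hg, h0]
    obtain ⟨k, hk⟩ := T.rotate.yoneda_exact₃ (rot_of_distTriang _ hT) _ e3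
    change T.obj₂⟦(1 : ℤ)⟧ ⟶ E at k
    change m.hom₁⟦(1 : ℤ)⟧' ≫ g = (-T.mor₁⟦(1 : ℤ)⟧') ≫ k at hk
    obtain ⟨k', rfl⟩ := h₂'.2 k
    change m.hom₁⟦(1 : ℤ)⟧' ≫ g = (-T.mor₁⟦(1 : ℤ)⟧') ≫ m.hom₂⟦(1 : ℤ)⟧' ≫ k' at hk
    have hg' : g = -(T'.mor₁⟦(1 : ℤ)⟧' ≫ k') := h₁'.1 (by
      show m.hom₁⟦(1 : ℤ)⟧' ≫ g = m.hom₁⟦(1 : ℤ)⟧' ≫ (-(T'.mor₁⟦(1 : ℤ)⟧' ≫ k'))
      rw [hk, Preadditive.neg_comp, Preadditive.comp_neg, ← Category.assoc,
        ← Functor.map_comp, m.comm₁, Functor.map_comp, Category.assoc])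
    rw [hg, hg', Preadditive.comp_neg, ← Category.assoc,
      comp_distTriang_mor_zero₃₁ _ hT', zero_comp, neg_zero]
  · obtain ⟨a, ha⟩ := (h₂ E hE).2 (T.mor₂ ≫ ψ)
    change m.hom₂ ≫ a = T.mor₂ ≫ ψ at ha
    have e1 : T'.mor₁ ≫ a = 0 := (h₁ E hE).1 (by
      show m.hom₁ ≫ T'.mor₁ ≫ a = m.hom₁ ≫ 0
      rw [← m.comm₁_assoc, ha, comp_zero, comp_distTriang_mor_zero₁₂_assoc _ hT, zero_comp])
    obtain ⟨b, hb⟩ := T'.yoneda_exact₂ hT' a e1
    obtain ⟨g, hg⟩ := T.yoneda_exact₃ hT (ψ - m.hom₃ ≫ b) (by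
      rw [Preadditive.comp_sub, m.comm₂_assoc, ← hb, ha, sub_self])
    obtain ⟨g', rfl⟩ := h₁'.2 g
    refine ⟨b + T'.mor₃ ≫ g', ?_⟩
    show m.hom₃ ≫ (b + T'.mor₃ ≫ g') = ψ
    rw [Preadditive.comp_add, ← m.comm₃_assoc, ← hg]
    abel

end Groth.Agent.DComplLib
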