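import Groth.Agent.DComplLib.SeqHom
import Groth.Agent.DComplLib.Triangle
import Mathlib.Algebra.Homology.HomotopyCategory.Pretriangulated
import Mathlib.Algebra.Homology.HomologicalComplexAbelian

/-!
# Derived completion with respect to one element
-/

set_option autoImplicit false
set_option linter.style.haveILetI false
set_option backward.isDefEq.respectTransparency false

universe u

open CategoryTheory Limits Pretriangulated CochainComplex CochainComplex.HomComplex
attribute [local instance] HasDerivedCategory.standard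

noncomputable section

namespace Groth.Agent.DComplLib

variable {A : Type u} [CommRing A] (f : A) (K : DRing.Cx A)

/-- `z ↦ (0, z 0, z 1, …)`. -/
def rightL (M : Type u) [AddCommGroup M] [Module A M] : (ℕ → M) →ₗ[A] (ℕ → M) where
  toFun z k := Nat.casesOn k 0 z
  map_add' _ _ := funext fun k => by cases k <;> simp
  map_smul' _ _ := funext fun k => by cases k <;> simp

/-- Shift to the right. -/
def seqRight : seqCx K ⟶ seqCx K where
  f i := ModuleCat.ofHom (rightL (K.X i))
  comm' i j _ := by
    ext x
    funext k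
    cases k with
    | zero => exact (map_zero (K.d i j).hom)
    | succ k => rfl

/-- Forgetting the zeroth term. -/
def seqTail : seqCx K ⟶ seqCx K where
  f i := ModuleCat.ofHom (LinearMap.funLeft A (K.X i) Nat.succ)
  comm' _ _ _ := rfl

/-- A sequence concentrated in the zeroth term. -/
def seqHead : K ⟶ seqCx K where
  f i := ModuleCat.ofHom (LinearMap.single A (fun _ : ℕ => K.X i) 0)
  comm' i j _ := by
    ext x
    funext k
    cases k with
    | zero => simp [seqCx]
    | succ k => simp [seqCx]

theorem seqRight_tail : seqRight K ≫ seqTail K = 𝟙 _ := by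
  ext i x
  rfl

theorem seqHead_tail : seqHead K ≫ seqTail K = 0 := by
  ext i x
  funext k
  exact Pi.single_eq_of_ne (M := fun _ : ℕ => K.X i) (Nat.succ_ne_zero k) x

/-- `T - f` on power series. -/
def phiMap : seqCx K ⟶ seqCx K := seqRight K - f • 𝟙 _

theorem seqT_eq : seqT f K = 𝟙 _ - f • seqTail K := by
  ext i x
  rfl

theorem phi_tail : phiMap f K ≫ seqTail K = seqT f K := by
  rw [phiMap, Preadditive.sub_comp, Linear.smul_comp, seqRight_tail, Category.id_comp, seqT_eq]

section Cone

variable {X : DRing.Cx A} (φ : X ⟶ X)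

/-- An endomorphism induces a nullhomotopic endomorphism of its cone. -/
def coneSelfHomotopy : Homotopy (mappingCone.map φ φ φ φ rfl) 0 :=
  (Cochain.equivHomotopy _ _).symm ⟨(mappingCone.snd φ).comp (mappingCone.inl φ) (zero_add (-1)), by
    rw [δ_zero_cochain_comp _ _ _ (neg_add_cancel 1), mappingCone.δ_inl, mappingCone.δ_snd, Cochain.ofHom_zero,
      add_zero]
    ext1 p
    simp [mappingCone.ext_from_iff φ (p + 1) p rfl, mappingCone.map,
      Cochain.comp_v _ _ (add_neg_cancel (1 : ℤ)) p (p + 1) p rfl (by omega)]⟩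

variable {Y : DRing.Cx A} (ψ : X ⟶ Y)

theorem map_sub_smul {a a' : X ⟶ X} {b b' : Y ⟶ Y} (ha : ψ ≫ b = a ≫ ψ) (hb : ψ ≫ b' = a' ≫ ψ) (c : A)
    (h : ψ ≫ (b - c • b') = (a - c • a') ≫ ψ) :
    mappingCone.map ψ ψ (a - c • a') (b - c • b') h =
      mappingCone.map ψ ψ a b ha - c • mappingCone.map ψ ψ a' b' hb := by
  apply HomologicalComplex.Hom.ext
  funext p
  simp [mappingCone.ext_from_iff ψ (p + 1) p rfl, mappingCone.map, Linear.comp_smul, Linear.smul_comp]

end Cone

/-- The completion with respect to `f`. -/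
def step : DRing.Cx A := mappingCone (phiMap f K)

/-- The unit of the completion. -/
def stepη : K ⟶ step f K := seqHead K ≫ mappingCone.inr (phiMap f K)

theorem phi_right : phiMap f K ≫ seqRight K = seqRight K ≫ phiMap f K := by
  simp [phiMap, Preadditive.sub_comp, Preadditive.comp_sub, Linear.comp_smul, Linear.smul_comp]

/-- Shift on the completion. -/
def stepR : step f K ⟶ step f K := mappingCone.map _ _ (seqRight K) (seqRight K) (phi_right f K)

theorem homotopy_stepR : Nonempty (Homotopy (stepR f K - f • 𝟙 (step f K)) 0) := by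
  have hi : phiMap f K ≫ 𝟙 _ = 𝟙 _ ≫ phiMap f K := by simp
  have h : phiMap f K ≫ (seqRight K - f • 𝟙 _) = (seqRight K - f • 𝟙 _) ≫ phiMap f K := rfl
  have e := map_sub_smul (phiMap f K) (phi_right f K) hi f h
  rw [mappingCone.map_id] at e
  exact ⟨(Homotopy.ofEq e.symm).trans (coneSelfHomotopy (phiMap f K))⟩

theorem bijective_seq_right (M : Type u) [AddCommGroup M] [Module A M] :
    Function.Bijective (fun (x : ℕ → ℕ → M) k => x k - rightL (A := A) M (x (k + 1))) := by
  refine ⟨fun x x' h => ?_, fun y => ⟨fun k j => ∑ i ∈ Finset.range (j + 1), y (k + i) (j - i), ?_⟩⟩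
  · have hj : ∀ j k, x k j = x' k j := fun j => by
      induction j with
      | zero => intro k; simpa [rightL] using congrFun (congrFun h k) 0
      | succ j ih => intro k; simpa [rightL, ih (k + 1)] using congrFun (congrFun h k) (j + 1)
    exact funext fun k => funext fun j => hj j k
  · funext k j
    cases j with
    | zero => simp [rightL]
    | succ j =>
      simp only [Pi.sub_apply]
      rw [Finset.sum_range_succ']
      simp [rightL, Nat.add_assoc, Nat.add_comm 1]

theorem dc_step (n : ℤ) : DC f ((step f K).homology n) := by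
  refine dc_of_bijective (step f K) n ?_
  let C := step f K
  let g : seqCx C ⟶ seqCx C := seqLift fun k => seqProj C k - seqProj C (k + 1) ≫ stepR f K
  obtain ⟨H⟩ := homotopy_stepR f K
  have hH : ∀ k, Homotopy (seqT f C ≫ seqProj C k) (g ≫ seqProj C k) := fun k =>
    (Homotopy.ofEq (seqT_proj f C k)).trans <| Homotopy.symm <|
      (Homotopy.ofEq (seqLift_proj _ k)).trans <| (Homotopy.equivSubZero).symm <|
        (Homotopy.ofEq (show seqProj C k - seqProj C (k + 1) ≫ stepR f K - (seqProj C k - f • seqProj C (k + 1)) =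
          (-seqProj C (k + 1)) ≫ (stepR f K - f • 𝟙 _) by
          rw [Preadditive.neg_comp, Preadditive.comp_sub, Linear.comp_smul, Category.comp_id]
          abel)).trans ((H.compLeft (-seqProj C (k + 1))).trans (Homotopy.ofEq comp_zero))
  have hg : IsIso g := by
    haveI : ∀ i, IsIso (g.f i) := fun i => (ConcreteCategory.isIso_iff_bijective _).2 (by
      let P := phiMap f K
      let a : C.X i →ₗ[A] (ℕ → K.X (i + 1)) := ((mappingCone.fst P).1.v i (i + 1) rfl).hom
      let b : C.X i →ₗ[A] (ℕ → K.X i) := ((mappingCone.snd P).v i i (add_zero i)).hom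
      let l : (ℕ → K.X (i + 1)) →ₗ[A] C.X i := ((mappingCone.inl P).v (i + 1) i (by omega)).hom
      let r : (ℕ → K.X i) →ₗ[A] C.X i := ((mappingCone.inr P).f i).hom
      let R : C.X i →ₗ[A] C.X i := ((stepR f K).f i).hom
      have hsum : ∀ x, l (a x) + r (b x) = x := fun x =>
        congr($(mappingCone.id_X P i (i + 1) rfl).hom x)
      have hal : ∀ u, a (l u) = u := fun u => congr($(mappingCone.inl_v_fst_v P (i + 1) i rfl).hom u)
      have hbl : ∀ u, b (l u) = 0 := fun u =>
        congr($(mappingCone.inl_v_snd_v P (i + 1) i (by omega)).hom u)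
      have har : ∀ v, a (r v) = 0 := fun v => congr($(mappingCone.inr_f_fst_v P i (i + 1) rfl).hom v)
      have hbr : ∀ v, b (r v) = v := fun v => congr($(mappingCone.inr_f_snd_v P i).hom v)
      have hRl : ∀ u, R (l u) = l (rightL (A := A) _ u) := fun u => by
        have e : (mappingCone.inl P).v (i + 1) i (by omega) ≫ (stepR f K).f i =
            (seqRight K).f (i + 1) ≫ (mappingCone.inl P).v (i + 1) i (by omega) := by
          simp [stepR, mappingCone.map, P, C, step]
        exact congr($(e).hom u)
      have hRr : ∀ v, R (r v) = r (rightL (A := A) _ v) := fun v => by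
        have e : (mappingCone.inr P).f i ≫ (stepR f K).f i = (seqRight K).f i ≫ (mappingCone.inr P).f i := by
          simp [stepR, mappingCone.map, P, C, step]
        exact congr($(e).hom v)
      have hR : ∀ x, a (R x) = rightL (A := A) _ (a x) ∧ b (R x) = rightL (A := A) _ (b x) := fun x => by
        have e : R x = l (rightL (A := A) _ (a x)) + r (rightL (A := A) _ (b x)) := by
          rw [← hRl, ← hRr, ← map_add, hsum]
        rw [e]
        simp only [map_add, hal, hbl, har, hbr, add_zero, zero_add, and_self]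
      show Function.Bijective fun (x : ℕ → C.X i) k => x k - R (x (k + 1))
      refine ⟨fun x x' h => ?_, fun y => ?_⟩
      · have hA := (bijective_seq_right (A := A) (K.X (i + 1))).1 (a₁ := fun k => a (x k))
          (a₂ := fun k => a (x' k)) (funext fun k => by
            simpa [map_sub, (hR _).1] using congrArg a (congrFun h k))
        have hB := (bijective_seq_right (A := A) (K.X i)).1 (a₁ := fun k => b (x k))
          (a₂ := fun k => b (x' k)) (funext fun k => by
            simpa [map_sub, (hR _).2] using congrArg b (congrFun h k))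
        exact funext fun k => by
          rw [← hsum (x k), ← hsum (x' k)]
          exact congrArg₂ (fun p q => l p + r q) (congrFun hA k) (congrFun hB k)
      · obtain ⟨u, hu⟩ := (bijective_seq_right (A := A) (K.X (i + 1))).2 fun k => a (y k)
        obtain ⟨v, hv⟩ := (bijective_seq_right (A := A) (K.X i)).2 fun k => b (y k)
        refine ⟨fun k => l (u k) + r (v k), funext fun k => ?_⟩
        have hu' : u k - rightL (A := A) _ (u (k + 1)) = a (y k) := congrFun hu k
        have hv' : v k - rightL (A := A) _ (v (k + 1)) = b (y k) := congrFun hv k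
        conv_rhs => rw [← hsum (y k), ← hu', ← hv']
        simp only [map_add, map_sub, hRl, hRr]
        abel)
    exact HomologicalComplex.Hom.isIso_of_components g
  rw [(seqHomotopy hH).homologyMap_eq n]
  exact (ConcreteCategory.isIso_iff_bijective _).1
    (inferInstanceAs (IsIso ((HomologicalComplex.homologyFunctor _ _ n).map g)))

theorem mem_dcIdealD_step_self : f ∈ dcIdealD (DRing.toD (step f K)) :=
  mem_dcIdealD.2 fun n => (dc_HD_iff _ n f).2 (dc_step f K n)

theorem mem_dcIdealD_step {g : A} (h : g ∈ dcIdealD (DRing.toD K)) :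
    g ∈ dcIdealD (DRing.toD (step f K)) := by
  have h' : g ∈ dcIdealD (DRing.toD (seqCx K)) := mem_dcIdealD.2 fun n =>
    (dc_HD_iff _ n g).2 (dc_seqCx_homology K n ((dc_HD_iff _ n g).1 (mem_dcIdealD.1 h n)))
  exact mem_dcIdealD_obj₃ (DerivedCategory.Q.mapTriangle.obj (mappingCone.triangle (phiMap f K)))
    (DerivedCategory.mappingCone_triangle_distinguished _) h' h'

theorem subsingleton_step (n : ℤ) (h : Subsingleton (Dual.HD A (DRing.toD K) n))
    (h' : Subsingleton (Dual.HD A (DRing.toD K) (n + 1))) :
    Subsingleton (Dual.HD A (DRing.toD (step f K)) n) := by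
  have hq : ∀ m, Subsingleton (Dual.HD A (DRing.toD K) m) →
      Subsingleton (Dual.HD A (DRing.toD (seqCx K)) m) := fun m hm =>
    haveI : Subsingleton (K.homology m) := (hQIso K m).toLinearEquiv.symm.injective.subsingleton
    haveI := subsingleton_seqCx_homology K m this
    (hQIso (seqCx K) m).toLinearEquiv.injective.subsingleton
  exact subsingleton_HD_obj₃ (DerivedCategory.Q.mapTriangle.obj (mappingCone.triangle (phiMap f K)))
    (DerivedCategory.mappingCone_triangle_distinguished _) n (hq n h) (hq _ h')

/-- The part of the completion on which `f` is invertible. -/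
def coneT : DRing.Cx A := mappingCone (seqT f K)

theorem isIso_smul_coneT : IsIso (f • 𝟙 (DRing.toD (coneT f K))) := by
  have hc : seqT f K ≫ seqTail K = seqTail K ≫ seqT f K := by
    simp [seqT_eq, Preadditive.sub_comp, Preadditive.comp_sub, Linear.comp_smul, Linear.smul_comp]
  let τ : coneT f K ⟶ coneT f K := mappingCone.map _ _ (seqTail K) (seqTail K) hc
  have hi : seqT f K ≫ 𝟙 _ = 𝟙 _ ≫ seqT f K := by simp
  have h : seqT f K ≫ (𝟙 _ - f • seqTail K) = (𝟙 _ - f • seqTail K) ≫ seqT f K := by rw [← seqT_eq]
  have e := map_sub_smul (seqT f K) hi hc f h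
  rw [mappingCone.map_id] at e
  have e' : mappingCone.map (seqT f K) (seqT f K) (seqT f K) (seqT f K) rfl =
      mappingCone.map (seqT f K) (seqT f K) (𝟙 _ - f • seqTail K) (𝟙 _ - f • seqTail K) h := by
    simp only [seqT_eq]
  have h0 := Q_map_eq_zero_of_homotopy (coneSelfHomotopy (seqT f K))
  rw [e', e, Functor.map_sub, sub_eq_zero, Functor.map_smul] at h0
  refine ⟨DerivedCategory.Q.map τ, ?_, ?_⟩
  · rw [Linear.smul_comp, Category.id_comp]
    exact h0.symm.trans (DerivedCategory.Q.map_id _)
  · rw [Linear.comp_smul, Category.comp_id]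
    exact h0.symm.trans (DerivedCategory.Q.map_id _)

theorem phi_tail_eq : phiMap f K ≫ seqTail K = 𝟙 _ ≫ seqT f K := by
  rw [Category.id_comp, phi_tail]

/-- `K → step f K → coneT f K`. -/
def stepSC : ShortComplex (DRing.Cx A) :=
  ShortComplex.mk (stepη f K) (mappingCone.map _ _ (𝟙 _) (seqTail K) (phi_tail_eq f K)) (by
    rw [stepη, Category.assoc, mappingCone.map, mappingCone.inr_desc, ← Category.assoc, seqHead_tail, zero_comp])

theorem stepSC_shortExact : (stepSC f K).ShortExact := by
  refine HomologicalComplex.shortExact_of_degreewise_shortExact _ fun i => ?_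
  let P := phiMap f K
  let T := seqT f K
  let a : (step f K).X i →ₗ[A] (ℕ → K.X (i + 1)) := ((mappingCone.fst P).1.v i (i + 1) rfl).hom
  let b : (step f K).X i →ₗ[A] (ℕ → K.X i) := ((mappingCone.snd P).v i i (add_zero i)).hom
  let l : (ℕ → K.X (i + 1)) →ₗ[A] (step f K).X i := ((mappingCone.inl P).v (i + 1) i (by omega)).hom
  let r : (ℕ → K.X i) →ₗ[A] (step f K).X i := ((mappingCone.inr P).f i).hom
  let a' : (coneT f K).X i →ₗ[A] (ℕ → K.X (i + 1)) := ((mappingCone.fst T).1.v i (i + 1) rfl).hom
  let b' : (coneT f K).X i →ₗ[A] (ℕ → K.X i) := ((mappingCone.snd T).v i i (add_zero i)).hom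
  let l' : (ℕ → K.X (i + 1)) →ₗ[A] (coneT f K).X i := ((mappingCone.inl T).v (i + 1) i (by omega)).hom
  let r' : (ℕ → K.X i) →ₗ[A] (coneT f K).X i := ((mappingCone.inr T).f i).hom
  let π : (step f K).X i →ₗ[A] (coneT f K).X i := ((stepSC f K).g.f i).hom
  let hd : K.X i →ₗ[A] (ℕ → K.X i) := LinearMap.single A (fun _ : ℕ => K.X i) 0
  let sh : (ℕ → K.X i) →ₗ[A] (ℕ → K.X i) := LinearMap.funLeft A (K.X i) Nat.succ
  have hsum : ∀ x, l (a x) + r (b x) = x := fun x => congr($(mappingCone.id_X P i (i + 1) rfl).hom x)
  have hsum' : ∀ x, l' (a' x) + r' (b' x) = x := fun x => congr($(mappingCone.id_X T i (i + 1) rfl).hom x)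
  have hal : ∀ u, a' (l' u) = u := fun u => congr($(mappingCone.inl_v_fst_v T (i + 1) i rfl).hom u)
  have hbl : ∀ u, b' (l' u) = 0 := fun u => congr($(mappingCone.inl_v_snd_v T (i + 1) i (by omega)).hom u)
  have har : ∀ v, a' (r' v) = 0 := fun v => congr($(mappingCone.inr_f_fst_v T i (i + 1) rfl).hom v)
  have hbr : ∀ v, b' (r' v) = v := fun v => congr($(mappingCone.inr_f_snd_v T i).hom v)
  have hπl : ∀ u, π (l u) = l' u := fun u => by
    have e : (mappingCone.inl P).v (i + 1) i (by omega) ≫ (stepSC f K).g.f i =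
        (mappingCone.inl T).v (i + 1) i (by omega) := by
      simp [stepSC, mappingCone.map, P, T]
    exact congr($(e).hom u)
  have hπr : ∀ v, π (r v) = r' (sh v) := fun v => by
    have e : (mappingCone.inr P).f i ≫ (stepSC f K).g.f i = (seqTail K).f i ≫ (mappingCone.inr T).f i := by
      simp [stepSC, mappingCone.map, P, T]
    exact congr($(e).hom v)
  haveI : Mono ((stepSC f K).map (HomologicalComplex.eval _ _ i)).f :=
    (ModuleCat.mono_iff_injective _).2 fun x y h => by
      have h' := congrArg ((mappingCone.snd P).v i i (add_zero i)).hom h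
      exact congrFun ((congr($(mappingCone.inr_f_snd_v P i).hom (hd x)).symm.trans h').trans
        congr($(mappingCone.inr_f_snd_v P i).hom (hd y))) 0 |> fun h => by simpa [hd] using h
  haveI : Epi ((stepSC f K).map (HomologicalComplex.eval _ _ i)).g :=
    (ModuleCat.epi_iff_surjective _).2 fun w => ⟨l (a' w) + r (fun k => Nat.casesOn k 0 (b' w)), by
      show π _ = w
      rw [map_add, hπl, hπr]
      exact hsum' w⟩
  refine ⟨(ShortComplex.moduleCat_exact_iff _).2 fun x hx => ?_⟩
  change π x = 0 at hx
  rw [← hsum x, map_add, hπl, hπr] at hx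
  have h1 : a x = 0 := by simpa [map_add, hal, har] using congrArg a' hx
  have h2 : sh (b x) = 0 := by simpa [map_add, hbl, hbr] using congrArg b' hx
  refine ⟨b x 0, ?_⟩
  show r (hd (b x 0)) = x
  conv_rhs => rw [← hsum x, h1, map_zero, zero_add]
  congr 1
  funext k
  cases k with
  | zero => simp [hd]
  | succ k => exact (Pi.single_eq_of_ne (M := fun _ : ℕ => K.X i) (Nat.succ_ne_zero k) (b x 0)).trans (congrFun h2 k).symm

theorem bijective_stepη (E : Dual.D A) (hE : f ∈ dcIdealD E) :
    Function.Bijective fun φ : DRing.toD (step f K) ⟶ E => DerivedCategory.Q.map (stepη f K) ≫ φ := by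
  let T := DerivedCategory.triangleOfSES (stepSC_shortExact f K)
  have hT : T ∈ distTriang _ := DerivedCategory.triangleOfSES_distinguished _
  haveI := isIso_smul_coneT f K
  haveI : IsIso (f • 𝟙 ((DRing.toD (coneT f K))⟦(-1 : ℤ)⟧)) := by
    rw [← CategoryTheory.Functor.map_id, ← Functor.map_smul]
    infer_instance
  have hz := mem_dcIdealD.1 hE
  refine ⟨fun φ φ' h => sub_eq_zero.1 ?_, fun ψ => ?_⟩
  · obtain ⟨g, hg⟩ := T.yoneda_exact₂ hT (φ - φ') (by
      show DerivedCategory.Q.map (stepη f K) ≫ (φ - φ') = 0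
      rw [Preadditive.comp_sub]
      exact sub_eq_zero.2 h)
    rw [hg, show g = 0 from eq_zero_of_isIso_smul (f := f) (X := DRing.toD (coneT f K)) hz g, comp_zero]
  · obtain ⟨g, hg⟩ := T.invRotate.yoneda_exact₂ (inv_rot_of_distTriang _ hT) ψ
      (eq_zero_of_isIso_smul (f := f) (X := (DRing.toD (coneT f K))⟦(-1 : ℤ)⟧) hz _)
    exact ⟨g, hg.symm⟩

end Groth.Agent.DComplLib
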